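import Cfsg.Agent.H482.TwoCyc.Untw

/-!
# Products of values of cyclotomic polynomials (helper482)

* `tab q` : the `n` with `φ(n) ≤ 6`, with `φ(n)` and `Φ_n(q)`; `knap` : the maximal product;
* `cyc_le` : `∏_{n ∈ S} Φ_n(q) ≤ B` for all `S` with `∑ φ(n) ≤ b ≤ 6` if `knap (tab q) b ≤ B` (decidable for numerals).
-/

set_option autoImplicit false
set_option linter.unusedSectionVars false

namespace Cfsg.Agent.H482.TwoCyc.Num

open Polynomial

/-- `(n, φ(n), Φ_n(q))` for `φ(n) ≤ 6` -/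
def tab (q : ℕ) : List (ℕ × ℕ × ℕ) :=
  [(1, 1, q - 1), (2, 1, q + 1), (3, 2, q ^ 2 + q + 1), (4, 2, q ^ 2 + 1), (6, 2, q ^ 2 - q + 1),
    (5, 4, q ^ 4 + q ^ 3 + q ^ 2 + q + 1), (8, 4, q ^ 4 + 1), (10, 4, q ^ 4 - q ^ 3 + q ^ 2 - q + 1),
    (12, 4, q ^ 4 - q ^ 2 + 1), (7, 6, q ^ 6 + q ^ 5 + q ^ 4 + q ^ 3 + q ^ 2 + q + 1), (9, 6, q ^ 6 + q ^ 3 + 1),
    (14, 6, q ^ 6 - q ^ 5 + q ^ 4 - q ^ 3 + q ^ 2 - q + 1), (18, 6, q ^ 6 - q ^ 3 + 1)]

/-- the maximal product of values, of total weight at most the budget -/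
def knap : List (ℕ × ℕ × ℕ) → ℕ → ℕ
  | [], _ => 1
  | (_, w, v) :: L, b => if w ≤ b then max (knap L b) (v * knap L (b - w)) else knap L b

theorem le_knap (w v : ℕ → ℕ) : ∀ (L : List (ℕ × ℕ × ℕ)), (∀ t ∈ L, w t.1 = t.2.1 ∧ v t.1 = t.2.2) →
    (L.map Prod.fst).Nodup → ∀ (S : Finset ℕ) (b : ℕ), (∀ n ∈ S, n ∈ L.map Prod.fst) → ∑ n ∈ S, w n ≤ b →
      ∏ n ∈ S, v n ≤ knap L b := by
  intro L
  induction L with
  | nil =>
    intro _ _ S b hS _
    have : S = ∅ := by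
      rw [Finset.eq_empty_iff_forall_notMem]
      intro n hn
      simpa using hS n hn
    rw [this]
    simp [knap]
  | cons t L ih =>
    intro hL hnd S b hS hb
    obtain ⟨n₀, w₀, v₀⟩ := t
    have hL' := fun t ht => hL t (List.mem_cons_of_mem _ ht)
    obtain ⟨hw, hv⟩ := hL (n₀, w₀, v₀) (by simp)
    rw [List.map_cons, List.nodup_cons] at hnd
    have hw' : w n₀ = w₀ := hw
    have hv' : v n₀ = v₀ := hv
    by_cases hn : n₀ ∈ S
    · have h1 : ∑ n ∈ S, w n = w n₀ + ∑ n ∈ S.erase n₀, w n := (Finset.add_sum_erase S w hn).symm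
      have h2 : ∏ n ∈ S, v n = v n₀ * ∏ n ∈ S.erase n₀, v n := (Finset.mul_prod_erase S v hn).symm
      rw [h1, hw'] at hb
      have h3 := ih hL' hnd.2 (S.erase n₀) (b - w₀) (by
        intro n hn'
        have h4 := hS n (Finset.mem_of_mem_erase hn')
        rw [List.map_cons, List.mem_cons] at h4
        rcases h4 with h4 | h4
        · exact absurd h4 (Finset.ne_of_mem_erase hn')
        · exact h4) (by omega)
      rw [h2, hv', knap, if_pos (by omega)]
      exact le_max_of_le_right (Nat.mul_le_mul_left _ h3)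
    · have h3 := ih hL' hnd.2 S b (by
        intro n hn'
        have h4 := hS n hn'
        rw [List.map_cons, List.mem_cons] at h4
        rcases h4 with h4 | h4
        · exact absurd (show n₀ ∈ S by rw [← show n = n₀ from h4]; exact hn') hn
        · exact h4) hb
      rw [knap]
      split_ifs
      · exact le_max_of_le_left h3
      · exact h3

/-- the `n` with `φ(n) ≤ 6` -/
theorem mem_tab {n : ℕ} (hn : 0 < n) (h : Nat.totient n ≤ 6) :
    n ∈ ([1, 2, 3, 4, 6, 5, 8, 10, 12, 7, 9, 14, 18] : List ℕ) := by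
  have hd : n ∣ 2520 := by
    rw [Nat.dvd_iff_prime_pow_dvd_dvd]
    intro p k hp hk
    rcases Nat.eq_zero_or_pos k with rfl | hk0
    · rw [pow_zero]; exact one_dvd _
    have h1 := Nat.totient_dvd_of_dvd hk
    have h2 := (Nat.le_of_dvd (Nat.totient_pos.2 hn) h1).trans h
    rw [Nat.totient_prime_pow hp hk0] at h2
    have hp2 := hp.two_le
    have h3 : 1 ≤ p ^ (k - 1) := Nat.one_le_pow _ _ hp.pos
    have hp7 : p ≤ 7 := by nlinarith [Nat.sub_add_cancel hp.one_le]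
    have h4 : p ^ (k - 1) ≤ 6 := by nlinarith [Nat.sub_add_cancel hp.one_le]
    have hk3 : k - 1 < 3 := by
      by_contra hcon
      have h5 : 2 ^ 3 ≤ 2 ^ (k - 1) := Nat.pow_le_pow_right (by norm_num) (by omega)
      have h6 : 2 ^ (k - 1) ≤ p ^ (k - 1) := Nat.pow_le_pow_left hp2 _
      omega
    obtain ⟨k', rfl⟩ : ∃ k', k = k' + 1 := ⟨k - 1, by omega⟩
    rw [Nat.add_sub_cancel] at h2 h4 hk3
    interval_cases p <;> interval_cases k' <;> omega
  have h1 : n ∈ Nat.divisors 2520 := Nat.mem_divisors.2 ⟨hd, by norm_num⟩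
  have h2 : ∀ n ∈ Nat.divisors 2520, Nat.totient n ≤ 6 →
      n ∈ ([1, 2, 3, 4, 6, 5, 8, 10, 12, 7, 9, 14, 18] : List ℕ) := by decide +kernel
  exact h2 n h1 h

/-! ### the values -/

theorem prod_eval (q : ℤ) {n : ℕ} (hn : 0 < n) {L : Finset ℕ} (hL : n.divisors = L) :
    ∏ i ∈ L, (cyclotomic i ℤ).eval q = q ^ n - 1 := by
  have h1 := congrArg (Polynomial.eval q) (prod_cyclotomic_eq_X_pow_sub_one hn ℤ)
  rw [eval_prod, hL] at h1
  rw [h1]
  simp

section Val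

variable (q : ℕ) (hq : 2 ≤ q)

theorem v1 : (cyclotomic 1 ℤ).eval (q : ℤ) = q - 1 := by simp

theorem v2 : (cyclotomic 2 ℤ).eval (q : ℤ) = q + 1 := by simp [cyclotomic_two]

include hq

theorem pos (n : ℕ) : (0 : ℤ) < (cyclotomic n ℤ).eval (q : ℤ) := cyclotomic_pos' n (by exact_mod_cast hq)

theorem v3 : (cyclotomic 3 ℤ).eval (q : ℤ) = q ^ 2 + q + 1 := by
  have h := prod_eval (q : ℤ) (n := 3) (L := {1, 3}) (by norm_num) (by decide)
  rw [Finset.prod_pair (by norm_num), v1] at h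
  have h1 : ((q : ℤ) - 1) ≠ 0 := by have : (2 : ℤ) ≤ q := by exact_mod_cast hq
                                    omega
  apply mul_left_cancel₀ h1
  rw [h]; ring

theorem v4 : (cyclotomic 4 ℤ).eval (q : ℤ) = q ^ 2 + 1 := by
  have h := prod_eval (q : ℤ) (n := 4) (L := {1, 2, 4}) (by norm_num) (by decide)
  rw [Finset.prod_insert (by decide), Finset.prod_pair (by norm_num), v1, v2] at h
  have h2 : (2 : ℤ) ≤ q := by exact_mod_cast hq
  have h1 : ((q : ℤ) - 1) * (q + 1) ≠ 0 := mul_ne_zero (by omega) (by omega)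
  apply mul_left_cancel₀ h1
  rw [mul_assoc, h]; ring

theorem v5 : (cyclotomic 5 ℤ).eval (q : ℤ) = q ^ 4 + q ^ 3 + q ^ 2 + q + 1 := by
  have h := prod_eval (q : ℤ) (n := 5) (L := {1, 5}) (by norm_num) (by decide)
  rw [Finset.prod_pair (by norm_num), v1] at h
  have h2 : (2 : ℤ) ≤ q := by exact_mod_cast hq
  apply mul_left_cancel₀ (show ((q : ℤ) - 1) ≠ 0 by omega)
  rw [h]; ring

theorem v6 : (cyclotomic 6 ℤ).eval (q : ℤ) = q ^ 2 - q + 1 := by
  have h := prod_eval (q : ℤ) (n := 6) (L := {1, 2, 3, 6}) (by norm_num) (by decide)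
  rw [Finset.prod_insert (by decide), Finset.prod_insert (by decide), Finset.prod_pair (by norm_num), v1, v2,
    v3 q hq] at h
  have h2 : (2 : ℤ) ≤ q := by exact_mod_cast hq
  have h1 : ((q : ℤ) - 1) * ((q + 1) * (q ^ 2 + q + 1)) ≠ 0 :=
    mul_ne_zero (by omega) (mul_ne_zero (by omega) (by positivity))
  apply mul_left_cancel₀ h1
  linear_combination h

theorem v7 : (cyclotomic 7 ℤ).eval (q : ℤ) = q ^ 6 + q ^ 5 + q ^ 4 + q ^ 3 + q ^ 2 + q + 1 := by
  have h := prod_eval (q : ℤ) (n := 7) (L := {1, 7}) (by norm_num) (by decide)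
  rw [Finset.prod_pair (by norm_num), v1] at h
  have h2 : (2 : ℤ) ≤ q := by exact_mod_cast hq
  apply mul_left_cancel₀ (show ((q : ℤ) - 1) ≠ 0 by omega)
  rw [h]; ring

theorem v8 : (cyclotomic 8 ℤ).eval (q : ℤ) = q ^ 4 + 1 := by
  have h := prod_eval (q : ℤ) (n := 8) (L := {1, 2, 4, 8}) (by norm_num) (by decide)
  rw [Finset.prod_insert (by decide), Finset.prod_insert (by decide), Finset.prod_pair (by norm_num), v1, v2,
    v4 q hq] at h
  have h2 : (2 : ℤ) ≤ q := by exact_mod_cast hq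
  have h1 : ((q : ℤ) - 1) * ((q + 1) * (q ^ 2 + 1)) ≠ 0 :=
    mul_ne_zero (by omega) (mul_ne_zero (by omega) (by positivity))
  apply mul_left_cancel₀ h1
  linear_combination h

theorem v9 : (cyclotomic 9 ℤ).eval (q : ℤ) = q ^ 6 + q ^ 3 + 1 := by
  have h := prod_eval (q : ℤ) (n := 9) (L := {1, 3, 9}) (by norm_num) (by decide)
  rw [Finset.prod_insert (by decide), Finset.prod_pair (by norm_num), v1, v3 q hq] at h
  have h2 : (2 : ℤ) ≤ q := by exact_mod_cast hq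
  have h1 : ((q : ℤ) - 1) * (q ^ 2 + q + 1) ≠ 0 := mul_ne_zero (by omega) (by positivity)
  apply mul_left_cancel₀ h1
  linear_combination h

theorem v10 : (cyclotomic 10 ℤ).eval (q : ℤ) = q ^ 4 - q ^ 3 + q ^ 2 - q + 1 := by
  have h := prod_eval (q : ℤ) (n := 10) (L := {1, 2, 5, 10}) (by norm_num) (by decide)
  rw [Finset.prod_insert (by decide), Finset.prod_insert (by decide), Finset.prod_pair (by norm_num), v1, v2,
    v5 q hq] at h
  have h2 : (2 : ℤ) ≤ q := by exact_mod_cast hq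
  have h1 : ((q : ℤ) - 1) * ((q + 1) * (q ^ 4 + q ^ 3 + q ^ 2 + q + 1)) ≠ 0 :=
    mul_ne_zero (by omega) (mul_ne_zero (by omega) (by positivity))
  apply mul_left_cancel₀ h1
  linear_combination h

theorem v12 : (cyclotomic 12 ℤ).eval (q : ℤ) = q ^ 4 - q ^ 2 + 1 := by
  have h := prod_eval (q : ℤ) (n := 12) (L := {1, 2, 3, 4, 6, 12}) (by norm_num) (by decide)
  rw [Finset.prod_insert (by decide), Finset.prod_insert (by decide), Finset.prod_insert (by decide),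
    Finset.prod_insert (by decide), Finset.prod_pair (by norm_num), v1, v2, v3 q hq, v4 q hq, v6 q hq] at h
  have h2 : (2 : ℤ) ≤ q := by exact_mod_cast hq
  have h3 : (0 : ℤ) < (q : ℤ) ^ 2 - q + 1 := by nlinarith
  have h1 : ((q : ℤ) - 1) * ((q + 1) * ((q ^ 2 + q + 1) * ((q ^ 2 + 1) * (q ^ 2 - q + 1)))) ≠ 0 :=
    mul_ne_zero (by omega) (mul_ne_zero (by omega) (mul_ne_zero (by positivity) (mul_ne_zero (by positivity) h3.ne')))
  apply mul_left_cancel₀ h1
  linear_combination h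

theorem v14 : (cyclotomic 14 ℤ).eval (q : ℤ) = q ^ 6 - q ^ 5 + q ^ 4 - q ^ 3 + q ^ 2 - q + 1 := by
  have h := prod_eval (q : ℤ) (n := 14) (L := {1, 2, 7, 14}) (by norm_num) (by decide)
  rw [Finset.prod_insert (by decide), Finset.prod_insert (by decide), Finset.prod_pair (by norm_num), v1, v2,
    v7 q hq] at h
  have h2 : (2 : ℤ) ≤ q := by exact_mod_cast hq
  have h1 : ((q : ℤ) - 1) * ((q + 1) * (q ^ 6 + q ^ 5 + q ^ 4 + q ^ 3 + q ^ 2 + q + 1)) ≠ 0 :=
    mul_ne_zero (by omega) (mul_ne_zero (by omega) (by positivity))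
  apply mul_left_cancel₀ h1
  linear_combination h

theorem v18 : (cyclotomic 18 ℤ).eval (q : ℤ) = q ^ 6 - q ^ 3 + 1 := by
  have h := prod_eval (q : ℤ) (n := 18) (L := {1, 2, 3, 6, 9, 18}) (by norm_num) (by decide)
  rw [Finset.prod_insert (by decide), Finset.prod_insert (by decide), Finset.prod_insert (by decide),
    Finset.prod_insert (by decide), Finset.prod_pair (by norm_num), v1, v2, v3 q hq, v6 q hq, v9 q hq] at h
  have h2 : (2 : ℤ) ≤ q := by exact_mod_cast hq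
  have h3 : (0 : ℤ) < (q : ℤ) ^ 2 - q + 1 := by nlinarith
  have h1 : ((q : ℤ) - 1) * ((q + 1) * ((q ^ 2 + q + 1) * ((q ^ 2 - q + 1) * (q ^ 6 + q ^ 3 + 1)))) ≠ 0 :=
    mul_ne_zero (by omega) (mul_ne_zero (by omega) (mul_ne_zero (by positivity) (mul_ne_zero h3.ne' (by positivity))))
  apply mul_left_cancel₀ h1
  linear_combination h

/-- the table is correct -/
theorem tab_spec : ∀ t ∈ tab q, Nat.totient t.1 = t.2.1 ∧ ((cyclotomic t.1 ℤ).eval (q : ℤ)).toNat = t.2.2 := by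
  have h1 : 1 ≤ q := by omega
  have e2 : q ≤ q ^ 2 := by nlinarith
  have e3 : q ^ 2 ≤ q ^ 3 := Nat.pow_le_pow_right h1 (by norm_num)
  have e4 : q ^ 3 ≤ q ^ 4 := Nat.pow_le_pow_right h1 (by norm_num)
  have e5 : q ^ 4 ≤ q ^ 5 := Nat.pow_le_pow_right h1 (by norm_num)
  have e6 : q ^ 5 ≤ q ^ 6 := Nat.pow_le_pow_right h1 (by norm_num)
  have key : ∀ (a : ℤ) (b : ℕ), a = b → a.toNat = b := fun a b h => by rw [h]; exact Int.toNat_natCast b
  intro t ht
  simp only [tab, List.mem_cons, List.not_mem_nil, or_false] at ht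
  rcases ht with rfl | rfl | rfl | rfl | rfl | rfl | rfl | rfl | rfl | rfl | rfl | rfl | rfl
  · exact ⟨(by decide : Nat.totient 1 = 1), key _ _ (by rw [v1]; push_cast [Nat.cast_sub h1]; ring)⟩
  · exact ⟨(by decide : Nat.totient 2 = 1), key _ _ (by rw [v2]; push_cast; ring)⟩
  · exact ⟨(by decide : Nat.totient 3 = 2), key _ _ (by rw [v3 q hq]; push_cast; ring)⟩
  · exact ⟨(by decide : Nat.totient 4 = 2), key _ _ (by rw [v4 q hq]; push_cast; ring)⟩
  · exact ⟨(by decide : Nat.totient 6 = 2), key _ _ (by rw [v6 q hq]; push_cast [Nat.cast_sub e2]; ring)⟩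
  · exact ⟨(by decide : Nat.totient 5 = 4), key _ _ (by rw [v5 q hq]; push_cast; ring)⟩
  · exact ⟨(by decide : Nat.totient 8 = 4), key _ _ (by rw [v8 q hq]; push_cast; ring)⟩
  · refine ⟨(by decide : Nat.totient 10 = 4), key _ _ ?_⟩
    rw [v10 q hq, Nat.cast_add, Nat.cast_sub (by omega), Nat.cast_add, Nat.cast_sub (by omega)]
    push_cast; ring
  · refine ⟨(by decide : Nat.totient 12 = 4), key _ _ ?_⟩
    rw [v12 q hq, Nat.cast_add, Nat.cast_sub (by omega)]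
    push_cast; ring
  · exact ⟨(by decide : Nat.totient 7 = 6), key _ _ (by rw [v7 q hq]; push_cast; ring)⟩
  · exact ⟨(by decide : Nat.totient 9 = 6), key _ _ (by rw [v9 q hq]; push_cast; ring)⟩
  · refine ⟨(by decide : Nat.totient 14 = 6), key _ _ ?_⟩
    rw [v14 q hq, Nat.cast_add, Nat.cast_sub (by omega), Nat.cast_add, Nat.cast_sub (by omega), Nat.cast_add,
      Nat.cast_sub (by omega)]
    push_cast; ring
  · refine ⟨(by decide : Nat.totient 18 = 6), key _ _ ?_⟩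
    rw [v18 q hq, Nat.cast_add, Nat.cast_sub (by omega)]
    push_cast; ring

/-- **The bound.** -/
theorem cyc_le {b B : ℕ} (hb : b ≤ 6) (hB : knap (tab q) b ≤ B) (S : Finset ℕ) (hS : ∀ n ∈ S, 0 < n)
    (h : ∑ n ∈ S, Nat.totient n ≤ b) : (∏ n ∈ S, cyclotomic n ℤ).eval (q : ℤ) ≤ B := by
  have h1 := le_knap Nat.totient (fun n => ((cyclotomic n ℤ).eval (q : ℤ)).toNat) (tab q) (tab_spec q hq) (by
    show ([1, 2, 3, 4, 6, 5, 8, 10, 12, 7, 9, 14, 18] : List ℕ).Nodup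
    decide) S b (by
    intro n hn
    show n ∈ ([1, 2, 3, 4, 6, 5, 8, 10, 12, 7, 9, 14, 18] : List ℕ)
    exact mem_tab (hS n hn) (((Finset.single_le_sum (fun _ _ => Nat.zero_le _) hn).trans h).trans hb)) h
  have h2 : ((∏ n ∈ S, ((cyclotomic n ℤ).eval (q : ℤ)).toNat : ℕ) : ℤ) = (∏ n ∈ S, cyclotomic n ℤ).eval (q : ℤ) := by
    rw [eval_prod]
    push_cast
    exact Finset.prod_congr rfl fun n _ => Int.toNat_of_nonneg (pos q hq n).le
  rw [← h2]
  exact_mod_cast h1.trans hB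

end Val

theorem knap_two : knap (tab 2) 6 = 217 ∧ knap (tab 2) 5 = 105 ∧ knap (tab 2) 4 = 35 ∧ knap (tab 2) 3 = 21 ∧
    knap (tab 2) 2 = 7 ∧ knap (tab 2) 1 = 3 ∧ knap (tab 2) 0 = 1 := by decide +kernel

theorem knap_three : knap (tab 3) 4 = 130 ∧ knap (tab 3) 3 = 52 ∧ knap (tab 3) 2 = 13 ∧ knap (tab 3) 1 = 4 ∧
    knap (tab 3) 0 = 1 := by decide +kernel

end Cfsg.Agent.H482.TwoCyc.Num
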