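import Cfsg.Agent.H482.TwoCyc.Pair

/-!
# Orders of the fixed elements of a Frobenius (helper482)

* `pos_of_cert` : positive definiteness from a certificate;
* `engine` : the orders of the semisimple and unipotent parts of `x`, `σ x = x`.
-/

set_option autoImplicit false
set_option linter.unusedSectionVars false

namespace Cfsg.Agent.H482.TwoCyc.Eng

open CoxeterSystem Cfsg Cfsg.Lie Cfsg.Lie.ChevalleyDatum
open Cfsg.Agent.ChevalleyStructure Cfsg.Agent.ChevalleyStructure.Elts Cfsg.Agent.ChevalleyStructure.CoxeterGeom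
  Cfsg.Agent.ChevalleyStructure.CoxeterGeomTypes Cfsg.Agent.ChevalleyStructure.NPerm
open Cfsg.Agent.Tits.Roots Cfsg.Agent.Tits.Core Cfsg.Agent.Nodes Cfsg.Agent.Nodes.Reps Cfsg.Agent.Nodes.BNOf
  Cfsg.Agent.Nodes.RGDChev Cfsg.Agent.Nodes.Bruhat
open Cfsg.Agent.KFacts.RgdField Cfsg.Agent.KFacts.RgdChevCoord
open Cfsg.Agent.BpExc Cfsg.Agent.BpExc.TorCent Cfsg.Agent.BpExc.TorChev Cfsg.Agent.BpExc.Tow
  Cfsg.Agent.BpExc.TowChev Cfsg.Agent.BpExc.Fr Cfsg.Agent.BpExc.NInst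
open Cfsg.Agent.H129.TorusChar Cfsg.Agent.BpExc.LangFr
open Cfsg.Agent.H482.TwoCyc.Pair
open Polynomial Matrix

universe u v

/-! ### forms -/

/-- a certificate of positive definiteness -/
def Cert {l : ℕ} (A P Q : Fin l → Fin l → ℤ) (c : Fin l → ℤ) (K κ : ℤ) : Prop :=
  0 < K ∧ (∀ i, 0 < c i) ∧ (∀ i j, A i j = A j i) ∧ (∀ i j, K * A i j = ∑ m, c m * P m i * P m j) ∧
    (∀ i j, ∑ m, Q i m * P m j = if i = j then κ else 0) ∧ κ ≠ 0

instance {l : ℕ} (A P Q : Fin l → Fin l → ℤ) (c : Fin l → ℤ) (K κ : ℤ) : Decidable (Cert A P Q c K κ) := by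
  unfold Cert; infer_instance

theorem pos_of_cert {l : ℕ} {A P Q : Fin l → Fin l → ℤ} {c : Fin l → ℤ} {K κ : ℤ} (h : Cert A P Q c K κ)
    (x : Fin l → ℝ) (hx : x ≠ 0) : 0 < x ⬝ᵥ ((Matrix.of A).map (Int.cast : ℤ → ℝ)) *ᵥ x := by
  obtain ⟨hK, hc, -, hP, hQ, hκ⟩ := h
  have hK' : (0 : ℝ) < K := by exact_mod_cast hK
  have h1 : (K : ℝ) * (x ⬝ᵥ ((Matrix.of A).map (Int.cast : ℤ → ℝ)) *ᵥ x) =
      ∑ m, (c m : ℝ) * (∑ i, (P m i : ℝ) * x i) ^ 2 := by
    have h2 : ∀ i j, (K : ℝ) * (A i j : ℝ) = ∑ m, (c m : ℝ) * (P m i : ℝ) * (P m j : ℝ) := by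
      intro i j
      exact_mod_cast hP i j
    simp only [dotProduct, Matrix.mulVec, Matrix.map_apply, Matrix.of_apply, Finset.mul_sum, pow_two,
      Finset.sum_mul]
    have h3 : ∀ i j, (K : ℝ) * (x i * ((A i j : ℝ) * x j)) = ∑ m, (c m : ℝ) * (P m i * x i * (P m j * x j)) := by
      intro i j
      have : (K : ℝ) * (x i * ((A i j : ℝ) * x j)) = (K * A i j) * (x i * x j) := by ring
      rw [this, h2, Finset.sum_mul]
      exact Finset.sum_congr rfl fun m _ => by ring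
    simp only [h3]
    rw [Finset.sum_congr rfl fun i _ => Finset.sum_comm, Finset.sum_comm]
    refine Finset.sum_congr rfl fun m _ => ?_
    rw [Finset.sum_comm]
  have h2 : 0 < ∑ m, (c m : ℝ) * (∑ i, (P m i : ℝ) * x i) ^ 2 := by
    have hc' : ∀ m, (0 : ℝ) < c m := fun m => by exact_mod_cast hc m
    refine lt_of_le_of_ne (Finset.sum_nonneg fun m _ => mul_nonneg (hc' m).le (sq_nonneg _)) (Ne.symm ?_)
    intro h0
    apply hx
    rw [Finset.sum_eq_zero_iff_of_nonneg fun m _ => mul_nonneg (hc' m).le (sq_nonneg _)] at h0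
    have h3 : ∀ m, ∑ i, (P m i : ℝ) * x i = 0 := by
      intro m
      have h4 := h0 m (Finset.mem_univ m)
      rcases mul_eq_zero.1 h4 with h5 | h5
      · exact absurd h5 (hc' m).ne'
      · exact pow_eq_zero_iff (two_ne_zero) |>.1 h5
    funext i
    have h4 : (κ : ℝ) * x i = 0 := by
      have h5 : ∀ i j, ∑ m, (Q i m : ℝ) * (P m j : ℝ) = if i = j then (κ : ℝ) else 0 := by
        intro i j
        have := hQ i j
        split_ifs with h6
        · rw [if_pos h6] at this; exact_mod_cast this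
        · rw [if_neg h6] at this; exact_mod_cast this
      calc (κ : ℝ) * x i = ∑ j, (if i = j then (κ : ℝ) else 0) * x j := by simp
        _ = ∑ j, (∑ m, (Q i m : ℝ) * (P m j : ℝ)) * x j := by simp only [h5]
        _ = ∑ m, (Q i m : ℝ) * ∑ j, (P m j : ℝ) * x j := by
            simp only [Finset.sum_mul, Finset.mul_sum]
            rw [Finset.sum_comm]
            exact Finset.sum_congr rfl fun m _ => Finset.sum_congr rfl fun j _ => by ring
        _ = 0 := by simp only [h3, mul_zero, Finset.sum_const_zero]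
    rcases mul_eq_zero.1 h4 with h5 | h5
    · exact absurd (by exact_mod_cast h5) hκ
    · exact h5
  rw [← h1] at h2
  exact (mul_pos_iff_of_pos_left hK').1 h2

section

variable {D : ChevalleyDatum} {l : ℕ} {M : CoxeterMatrix (Fin l)} (hp : IsType D l M) {k : Type u} [Field k]
  {W : Type v} [Group W] (cs : CoxeterSystem M W)

/-- the value of the form -/
def bq {l : ℕ} (A : Fin l → Fin l → ℤ) (x : Fin l → ℤ) : ℤ := x ⬝ᵥ (Matrix.of A) *ᵥ x

theorem bq_eq {l : ℕ} (A : Fin l → Fin l → ℤ) (x : Fin l → ℤ) : bq A x = ∑ i, ∑ j, x i * A i j * x j := by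
  simp only [bq, dotProduct, Matrix.mulVec, Matrix.of_apply, Finset.mul_sum]
  exact Finset.sum_congr rfl fun i _ => Finset.sum_congr rfl fun j _ => by ring

theorem bq_simple {A : Fin l → Fin l → ℤ} (hA : ∀ i j, A i j = A j i)
    (hAc : ∀ i j, 2 * A i j = A i i * cartanOf D l i j) (i : Fin l) (x : Fin l → ℤ) :
    bq A (rep cs hp.isCartan (cs.simple i) x) = bq A x := by
  rw [rep_simple_eq]
  set c := pairing (cartanOf D l) i x with hc
  have h1 : 2 * ∑ j, A i j * x j = A i i * c := by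
    rw [hc, pairing, Finset.mul_sum, Finset.mul_sum]
    refine Finset.sum_congr rfl fun j _ => ?_
    rw [← mul_assoc, hAc, mul_assoc]
  have h2 : ∀ y z : Fin l → ℤ, ∀ c : ℤ, bq A (y - c • z) = bq A y - c * (2 * ∑ i, ∑ j, z i * A i j * y j) +
      c ^ 2 * bq A z := by
    intro y z c
    have hsw : ∑ i, ∑ j, y i * A i j * z j = ∑ i, ∑ j, z i * A i j * y j := by
      rw [Finset.sum_comm]
      exact Finset.sum_congr rfl fun i _ => Finset.sum_congr rfl fun j _ => by rw [hA j i]; ring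
    rw [bq_eq, bq_eq, bq_eq]
    have h3 : ∀ i j, (y - c • z) i * A i j * (y - c • z) j = y i * A i j * y j - c * (y i * A i j * z j) -
        c * (z i * A i j * y j) + c ^ 2 * (z i * A i j * z j) := by
      intro i j
      simp only [Pi.sub_apply, Pi.smul_apply, smul_eq_mul]
      ring
    simp only [h3, Finset.sum_add_distrib, Finset.sum_sub_distrib, ← Finset.mul_sum]
    rw [hsw]
    ring
  have h3 : ∑ m, ∑ j, (sr i : Fin l → ℤ) m * A m j * x j = ∑ j, A i j * x j := by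
    rw [Finset.sum_eq_single i]
    · refine Finset.sum_congr rfl fun j _ => ?_
      rw [sr_self, one_mul]
    · intro m _ hm
      refine Finset.sum_eq_zero fun j _ => ?_
      rw [sr_ne hm, zero_mul, zero_mul]
    · intro h; exact absurd (Finset.mem_univ i) h
  have h4 : bq A (sr i : Fin l → ℤ) = A i i := by
    rw [bq_eq, Finset.sum_eq_single i]
    · rw [Finset.sum_eq_single i]
      · rw [sr_self, one_mul, mul_one]
      · intro m _ hm
        rw [sr_ne hm, mul_zero]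
      · intro h; exact absurd (Finset.mem_univ i) h
    · intro m _ hm
      refine Finset.sum_eq_zero fun j _ => ?_
      rw [sr_ne hm, zero_mul, zero_mul]
    · intro h; exact absurd (Finset.mem_univ i) h
  rw [h2, h3, h1, h4]
  ring

theorem bq_rep {A : Fin l → Fin l → ℤ} (hA : ∀ i j, A i j = A j i)
    (hAc : ∀ i j, 2 * A i j = A i i * cartanOf D l i j) (w : W) (x : Fin l → ℤ) :
    bq A (rep cs hp.isCartan w x) = bq A x := by
  obtain ⟨ω, rfl⟩ := cs.wordProd_surjective w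
  induction ω with
  | nil => rw [wordProd_nil, map_one, Module.End.one_apply]
  | cons i ω ih => rw [wordProd_cons, rep_mul_apply, bq_simple hp cs hA hAc, ih]

/-- an injective endomorphism permuting the roots has finite order -/
theorem exists_pow [Finite W] {R : Module.End ℤ (Fin l → ℤ)} (hinj : Function.Injective R)
    (hR : ∀ a, IsRoot cs hp.isCartan a → IsRoot cs hp.isCartan (R a)) : ∃ n : ℕ, 0 < n ∧ R ^ n = 1 := by
  classical
  have hfin : Finite {a : Fin l → ℤ // IsRoot cs hp.isCartan a} := by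
    have h1 : {a : Fin l → ℤ | IsRoot cs hp.isCartan a} ⊆ Set.range fun r : Fin D.nroots => vec D l r := by
      intro a ha
      obtain ⟨r, hr, rfl⟩ := (isRoot_iff hp cs a).1 ha
      exact ⟨⟨r, hr⟩, rfl⟩
    exact ((Set.finite_range _).subset h1).to_subtype
  let f : {a : Fin l → ℤ // IsRoot cs hp.isCartan a} → {a : Fin l → ℤ // IsRoot cs hp.isCartan a} :=
    fun a => ⟨R a.1, hR a.1 a.2⟩
  have hf : Function.Injective f := fun a b h => Subtype.ext (hinj (congrArg Subtype.val h))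
  let σ : Equiv.Perm {a : Fin l → ℤ // IsRoot cs hp.isCartan a} := Equiv.ofBijective f (Finite.injective_iff_bijective.1 hf)
  have h1 : ∀ (n : ℕ) (a : {a : Fin l → ℤ // IsRoot cs hp.isCartan a}), (((σ ^ n) a : _) : Fin l → ℤ) = (R ^ n) a.1 := by
    intro n
    induction n with
    | zero => intro a; rfl
    | succ n ih =>
      intro a
      rw [pow_succ, pow_succ, Equiv.Perm.mul_apply, Module.End.mul_apply, ih]
      rfl
  refine ⟨orderOf σ, orderOf_pos σ, ?_⟩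
  refine (Pi.basisFun ℤ (Fin l)).ext fun i => ?_
  have h2 : (Pi.basisFun ℤ (Fin l)) i = (sr i : Fin l → ℤ) := by
    rw [Pi.basisFun_apply]; rfl
  rw [h2]
  have h3 := h1 (orderOf σ) ⟨sr i, isRoot_sr _ _ i⟩
  rw [pow_orderOf_eq_one] at h3
  exact h3.symm

variable [IsAlgClosed k] [Finite W] {p e : ℕ} [Fact p.Prime] [CharP k p]
  {σ : MulAut ↥(D.group k)} {g : (Fin l → ℤ) ≃+ (Fin l → ℤ)}

/-- **The orders of the elements of `Y^σ`**, the data. -/
theorem raw (hk : LocFin k) (hka : BpExc.TorAll.HAlg p k) (hσ : IsFrob p e σ)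
    (F : Fr cs hp.isCartan (TT D k) (XX D l k) σ g)
    {G : Type*} [Group G] (f : G →* ↥(D.group k)) (hf : Function.Injective f) (x : G) (hx : σ (f x) = f x)
    (hx0 : 0 < orderOf x) :
    ∃ m j : ℕ, orderOf x = m * p ^ j ∧ m.Coprime p ∧ 0 < m ∧ ∃ (χ : (Fin l → ℤ) → k) (R : Module.End ℤ (Fin l → ℤ)),
      IsMC χ ∧ (∃ w : W, ∀ y, R y = rep cs hp.isCartan w (g y)) ∧ (∀ y, χ (R y) = χ y ^ p ^ e) ∧
      (∀ a : ℕ, (∀ y, χ y ^ a = 1) → m ∣ a) ∧
      ∃ u' ∈ RGD.Sup (XX D l k) {a | IsRoot cs hp.isCartan a ∧ 0 ≤ a ∧ χ a = 1}, ∀ i : ℕ, u' ^ p ^ i = 1 → j ≤ i := by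
  have hpp : p.Prime := Fact.out
  -- the decomposition
  obtain ⟨j, m, hm, hmj⟩ := Nat.exists_eq_pow_mul_and_not_dvd hx0.ne' p hpp.ne_one
  have hmp : m.Coprime p := ((Nat.Prime.coprime_iff_not_dvd hpp).2 hm).symm
  have hm0 : 0 < m := by
    rcases Nat.eq_zero_or_pos m with rfl | h
    · rw [mul_zero] at hmj; omega
    · exact h
  have hpj : 0 < p ^ j := pow_pos hpp.pos j
  set s : ↥(D.group k) := f x ^ p ^ j with hs
  set u : ↥(D.group k) := f x ^ m with hu
  have hfx : orderOf (f x) = p ^ j * m := by rw [orderOf_injective f hf]; exact hmj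
  have hos : orderOf s = m := by
    rw [hs, orderOf_pow' _ hpj.ne', hfx, Nat.gcd_eq_right (Dvd.intro _ rfl), Nat.mul_div_cancel_left _ hpj]
  have hou : orderOf u = p ^ j := by
    rw [hu, orderOf_pow' _ hm0.ne', hfx, Nat.gcd_eq_right (Dvd.intro_left _ rfl), Nat.mul_div_cancel _ hm0]
  have hσs : σ s = s := by rw [hs, map_pow, hx]
  have hsu : u * s = s * u := by rw [hs, hu]; exact (Commute.refl (f x)).pow_pow _ _
  obtain ⟨t, w, ht, hchi, h1, u', hu', h2⟩ := pair hp cs hk hka hσ F hσs hsu hm0.ne' hmp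
    (by rw [← hos, pow_orderOf_eq_one]) (j := j) (by rw [← hou, pow_orderOf_eq_one])
  refine ⟨m, j, by rw [hmj, mul_comm], hmp, hm0, cX hp t,
    (rep cs hp.isCartan w) ∘ₗ (g.toIntLinearEquiv : (Fin l → ℤ) →ₗ[ℤ] (Fin l → ℤ)), isMC_cX hp ht,
    ⟨w, fun y => rfl⟩, hchi, ?_, u', hu', ?_⟩
  · intro a ha
    rw [← hos]
    exact orderOf_dvd_of_pow_eq_one (h1 a ha)
  · intro i hi
    have h3 := orderOf_dvd_of_pow_eq_one (h2 _ hi)
    rw [hou] at h3
    exact (Nat.pow_dvd_pow_iff_le_right hpp.one_lt).1 h3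

/-- **The orders of the elements of `Y^σ`.** -/
theorem engine (hk : LocFin k) (hka : BpExc.TorAll.HAlg p k) (hσ : IsFrob p e σ)
    (F : Fr cs hp.isCartan (TT D k) (XX D l k) σ g) {A P Q : Fin l → Fin l → ℤ} {c : Fin l → ℤ} {K κ : ℤ}
    (hcert : Cert A P Q c K κ) (hAc : ∀ i j, 2 * A i j = A i i * cartanOf D l i j) (hg : ∀ x, bq A (g x) = bq A x)
    {N : ℕ} (hN : ∀ r < D.nroots, bq A (vec D l r) ≤ N) {J : ℕ}
    (hJ : ∀ u ∈ RGD.Sup (XX D l k) (Hn hp cs 1), u ^ p ^ J = 1)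
    {G : Type*} [Group G] (f : G →* ↥(D.group k)) (hf : Function.Injective f) (x : G) (hx : σ (f x) = f x)
    (hx0 : 0 < orderOf x) :
    ∃ m j : ℕ, orderOf x = m * p ^ j ∧ m.Coprime p ∧ j ≤ J ∧
      (∃ S : Finset ℕ, (∀ n ∈ S, 0 < n) ∧ ∑ n ∈ S, Nat.totient n ≤ l ∧
        (m : ℤ) ∣ (∏ n ∈ S, cyclotomic n ℤ).eval ((p ^ e : ℕ) : ℤ)) ∧
      (j ≠ 0 → ∃ d n : ℕ, 1 ≤ d ∧ 0 < n ∧ n ^ 2 ≤ N ^ d ∧ (d = 1 → n = 1) ∧
        ∃ S : Finset ℕ, (∀ n ∈ S, 0 < n) ∧ ∑ n ∈ S, Nat.totient n + d ≤ l ∧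
          (m : ℤ) ∣ n * (∏ n ∈ S, cyclotomic n ℤ).eval ((p ^ e : ℕ) : ℤ)) := by
  obtain ⟨m, j, h1, hmp, hm0, χ, R, hχ, ⟨w, hRw⟩, hR, hdvd, u', hu', hj⟩ := raw hp cs hk hka hσ F f hf x hx hx0
  have hRinj : Function.Injective R := by
    intro a b hab
    rw [hRw, hRw] at hab
    have h2 : g a = g b := by
      rw [← rep_inv_apply cs hp.isCartan w (g a), hab, rep_inv_apply]
    exact g.injective h2
  obtain ⟨M', hM', hRM⟩ := exists_pow hp cs hRinj (fun a ha => by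
    rw [hRw]; exact ((F.root a).2 ha).act w)
  have hint : ∀ (z : ℤ), (∀ y, χ y ^ z = 1) → (m : ℤ) ∣ z := by
    intro z hz
    have h2 : ∀ y, χ y ^ z.natAbs = 1 := by
      intro y
      have h3 := hz y
      rcases Int.natAbs_eq z with h4 | h4
      · rw [h4, zpow_natCast] at h3; exact h3
      · rw [h4, _root_.zpow_neg, inv_eq_one, zpow_natCast] at h3; exact h3
    exact Int.natCast_dvd.2 (hdvd _ h2)
  have hbR : ∀ x, bq A (R x) = bq A x := by
    intro x
    rw [hRw, bq_rep hp cs hcert.2.2.1 hAc, hg]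
  have hsub : {a | IsRoot cs hp.isCartan a ∧ 0 ≤ a ∧ χ a = 1} ⊆ Hn hp cs 1 := by
    intro a ha
    have := RGD.ht_pos ha.1 ha.2.1
    exact ⟨ha.1, ha.2.1, by omega⟩
  refine ⟨m, j, h1, hmp, hj J (hJ u' (RGD.Sup_mono hsub hu')), ?_, ?_⟩
  · obtain ⟨S, hS, h2, h3⟩ := Lat.semi hχ hR hM' hRM
    exact ⟨S, hS, h2, hint _ h3⟩
  · intro hj0
    -- a root is killed
    have hne : ∃ a, IsRoot cs hp.isCartan a ∧ 0 ≤ a ∧ χ a = 1 := by
      by_contra hcon
      push Not at hcon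
      have h2 : {a | IsRoot cs hp.isCartan a ∧ 0 ≤ a ∧ χ a = 1} = (∅ : Set (Fin l → ℤ)) := by
        rw [Set.eq_empty_iff_forall_notMem]
        rintro a ⟨h3, h4, h5⟩
        exact hcon a h3 h4 h5
      rw [h2] at hu'
      have h3 : RGD.Sup (XX D l k) (∅ : Set (Fin l → ℤ)) ≤ ⊥ :=
        RGD.Sup_le fun a ha => absurd ha (Set.notMem_empty a)
      have h4 : u' = 1 := Subgroup.mem_bot.1 (h3 hu')
      have := hj 0 (by rw [h4, one_pow])
      omega
    obtain ⟨a, ha, -, hχa⟩ := hne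
    obtain ⟨r, hr, rfl⟩ := (isRoot_iff hp cs a).1 ha
    have ha0 : vec D l r ≠ 0 := ha.ne_zero
    have hpos := pos_of_cert hcert
    have hA : (Matrix.of A).IsSymm := Matrix.IsSymm.ext fun i j => hcert.2.2.1 j i
    have hNa : 0 ≤ bq A (vec D l r) := by
      have h2 := hpos (fun i => (vec D l r i : ℝ)) (fun h => ha0 (funext fun i => by
        have h6 : (vec D l r i : ℝ) = 0 := congrFun h i
        rw [Pi.zero_apply]
        exact_mod_cast h6))
      have h3 : ((bq A (vec D l r) : ℤ) : ℝ) = (fun i => (vec D l r i : ℝ)) ⬝ᵥ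
          ((Matrix.of A).map (Int.cast : ℤ → ℝ)) *ᵥ (fun i => (vec D l r i : ℝ)) := by
        simp only [bq, dotProduct, Matrix.mulVec, Matrix.map_apply, Int.cast_sum, Int.cast_mul]
      rw [← h3] at h2
      exact_mod_cast h2.le
    obtain ⟨Na, hNa'⟩ := Int.eq_ofNat_of_zero_le hNa
    obtain ⟨w₁, i₁, hwi⟩ := ha
    obtain ⟨d, n, hd, hn, hnN, hn1, S, hS, h2, h3⟩ := Lat.levi hχ hR hM' hRM (Matrix.of A) hA hpos hbR ha0 hχa hNa'
      ((LinearMap.proj i₁ : (Fin l → ℤ) →ₗ[ℤ] ℤ) ∘ₗ rep cs hp.isCartan w₁⁻¹) (by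
        rw [LinearMap.comp_apply, hwi, rep_inv_apply]
        exact sr_self i₁)
    refine ⟨d, n, hd, hn, hnN.trans (Nat.pow_le_pow_left ?_ d), hn1, S, hS, h2, hint _ h3⟩
    have h4 := hN r hr
    rw [hNa'] at h4
    exact_mod_cast h4

end

end Cfsg.Agent.H482.TwoCyc.Eng
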