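import Cfsg.Agent.H482.TwoCyc.Eng

/-!
# The forms of the exceptional types (helper482)
-/

set_option autoImplicit false
set_option linter.unusedSectionVars false
set_option maxRecDepth 100000

namespace Cfsg.Agent.H482.TwoCyc.Forms

open Cfsg Cfsg.Lie Cfsg.Agent.ChevalleyStructure.CoxeterGeomTypes Cfsg.Agent.Nodes.RGDChev Cfsg.Agent.H482.TwoCyc.Eng

/-! ### G2 -/

def AG2 : Fin 2 → Fin 2 → ℤ := ![![2, -3], ![-3, 6]]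

def PG2 : Fin 2 → Fin 2 → ℤ := ![![2, -3], ![0, 1]]

def QG2 : Fin 2 → Fin 2 → ℤ := ![![1, 3], ![0, 2]]

def cG2 : Fin 2 → ℤ := ![1, 3]

theorem cert_G2 : Cert AG2 PG2 QG2 cG2 2 2 := by decide +kernel

theorem cart_G2 : ∀ i j, 2 * AG2 i j = AG2 i i * cartanOf chevG2 2 i j := by decide +kernel

theorem len_G2 : ∀ r : Fin (chevG2).nroots, (∑ i, ∑ j, vec chevG2 2 r i * AG2 i j * vec chevG2 2 r j) ≤ 6 ∧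
    (∑ i, vec chevG2 2 r i) ≤ 5 := by decide +kernel

/-! ### F4 -/

def AF4 : Fin 4 → Fin 4 → ℤ := ![![2, -1, 0, 0], ![-1, 2, -2, 0], ![0, -2, 4, -2], ![0, 0, -2, 4]]

def PF4 : Fin 4 → Fin 4 → ℤ := ![![2, -1, 0, 0], ![0, 3, -4, 0], ![0, 0, 2, -3], ![0, 0, 0, 1]]

def QF4 : Fin 4 → Fin 4 → ℤ := ![![3, 1, 2, 6], ![0, 2, 4, 12], ![0, 0, 3, 9], ![0, 0, 0, 6]]

def cF4 : Fin 4 → ℤ := ![3, 1, 2, 6]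

theorem cert_F4 : Cert AF4 PF4 QF4 cF4 6 6 := by decide +kernel

theorem cart_F4 : ∀ i j, 2 * AF4 i j = AF4 i i * cartanOf chevF4 4 i j := by decide +kernel

theorem len_F4 : ∀ r : Fin (chevF4).nroots, (∑ i, ∑ j, vec chevF4 4 r i * AF4 i j * vec chevF4 4 r j) ≤ 4 ∧
    (∑ i, vec chevF4 4 r i) ≤ 11 := by decide +kernel

/-! ### E6 -/

def AE6 : Fin 6 → Fin 6 → ℤ := ![![2, 0, -1, 0, 0, 0], ![0, 2, 0, -1, 0, 0], ![-1, 0, 2, -1, 0, 0], ![0, -1, -1, 2, -1, 0], ![0, 0, 0, -1, 2, -1], ![0, 0, 0, 0, -1, 2]]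

def PE6 : Fin 6 → Fin 6 → ℤ := ![![2, 0, -1, 0, 0, 0], ![0, 2, 0, -1, 0, 0], ![0, 0, 3, -2, 0, 0], ![0, 0, 0, 5, -6, 0], ![0, 0, 0, 0, 4, -5], ![0, 0, 0, 0, 0, 1]]

def QE6 : Fin 6 → Fin 6 → ℤ := ![![30, 0, 10, 4, 6, 30], ![0, 30, 0, 6, 9, 45], ![0, 0, 20, 8, 12, 60], ![0, 0, 0, 12, 18, 90], ![0, 0, 0, 0, 15, 75], ![0, 0, 0, 0, 0, 60]]

def cE6 : Fin 6 → ℤ := ![30, 30, 10, 2, 3, 45]

theorem cert_E6 : Cert AE6 PE6 QE6 cE6 60 60 := by decide +kernel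

theorem cart_E6 : ∀ i j, 2 * AE6 i j = AE6 i i * cartanOf chevE6 6 i j := by decide +kernel

theorem len_E6 : ∀ r : Fin (chevE6).nroots, (∑ i, ∑ j, vec chevE6 6 r i * AE6 i j * vec chevE6 6 r j) ≤ 2 ∧
    (∑ i, vec chevE6 6 r i) ≤ 11 := by decide +kernel

/-! ### E7 -/

def AE7 : Fin 7 → Fin 7 → ℤ := ![![2, 0, -1, 0, 0, 0, 0], ![0, 2, 0, -1, 0, 0, 0], ![-1, 0, 2, -1, 0, 0, 0], ![0, -1, -1, 2, -1, 0, 0], ![0, 0, 0, -1, 2, -1, 0], ![0, 0, 0, 0, -1, 2, -1], ![0, 0, 0, 0, 0, -1, 2]]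

def PE7 : Fin 7 → Fin 7 → ℤ := ![![2, 0, -1, 0, 0, 0, 0], ![0, 2, 0, -1, 0, 0, 0], ![0, 0, 3, -2, 0, 0, 0], ![0, 0, 0, 5, -6, 0, 0], ![0, 0, 0, 0, 4, -5, 0], ![0, 0, 0, 0, 0, 3, -4], ![0, 0, 0, 0, 0, 0, 1]]

def QE7 : Fin 7 → Fin 7 → ℤ := ![![30, 0, 10, 4, 6, 10, 40], ![0, 30, 0, 6, 9, 15, 60], ![0, 0, 20, 8, 12, 20, 80], ![0, 0, 0, 12, 18, 30, 120], ![0, 0, 0, 0, 15, 25, 100], ![0, 0, 0, 0, 0, 20, 80], ![0, 0, 0, 0, 0, 0, 60]]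

def cE7 : Fin 7 → ℤ := ![30, 30, 10, 2, 3, 5, 40]

theorem cert_E7 : Cert AE7 PE7 QE7 cE7 60 60 := by decide +kernel

theorem cart_E7 : ∀ i j, 2 * AE7 i j = AE7 i i * cartanOf chevE7 7 i j := by decide +kernel

theorem len_E7 : ∀ r : Fin (chevE7).nroots, (∑ i, ∑ j, vec chevE7 7 r i * AE7 i j * vec chevE7 7 r j) ≤ 2 ∧
    (∑ i, vec chevE7 7 r i) ≤ 17 := by decide +kernel

/-! ### E8 -/

def AE8 : Fin 8 → Fin 8 → ℤ := ![![2, 0, -1, 0, 0, 0, 0, 0], ![0, 2, 0, -1, 0, 0, 0, 0], ![-1, 0, 2, -1, 0, 0, 0, 0], ![0, -1, -1, 2, -1, 0, 0, 0], ![0, 0, 0, -1, 2, -1, 0, 0], ![0, 0, 0, 0, -1, 2, -1, 0], ![0, 0, 0, 0, 0, -1, 2, -1], ![0, 0, 0, 0, 0, 0, -1, 2]]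

def PE8 : Fin 8 → Fin 8 → ℤ := ![![2, 0, -1, 0, 0, 0, 0, 0], ![0, 2, 0, -1, 0, 0, 0, 0], ![0, 0, 3, -2, 0, 0, 0, 0], ![0, 0, 0, 5, -6, 0, 0, 0], ![0, 0, 0, 0, 4, -5, 0, 0], ![0, 0, 0, 0, 0, 3, -4, 0], ![0, 0, 0, 0, 0, 0, 2, -3], ![0, 0, 0, 0, 0, 0, 0, 1]]

def QE8 : Fin 8 → Fin 8 → ℤ := ![![30, 0, 10, 4, 6, 10, 20, 60], ![0, 30, 0, 6, 9, 15, 30, 90], ![0, 0, 20, 8, 12, 20, 40, 120], ![0, 0, 0, 12, 18, 30, 60, 180], ![0, 0, 0, 0, 15, 25, 50, 150], ![0, 0, 0, 0, 0, 20, 40, 120], ![0, 0, 0, 0, 0, 0, 30, 90], ![0, 0, 0, 0, 0, 0, 0, 60]]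

def cE8 : Fin 8 → ℤ := ![30, 30, 10, 2, 3, 5, 10, 30]

theorem cert_E8 : Cert AE8 PE8 QE8 cE8 60 60 := by decide +kernel

theorem cart_E8 : ∀ i j, 2 * AE8 i j = AE8 i i * cartanOf chevE8 8 i j := by decide +kernel

theorem len_E8 : ∀ r : Fin (chevE8).nroots, (∑ i, ∑ j, vec chevE8 8 r i * AE8 i j * vec chevE8 8 r j) ≤ 2 ∧
    (∑ i, vec chevE8 8 r i) ≤ 29 := by decide +kernel

end Cfsg.Agent.H482.TwoCyc.Forms
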