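import Mathlib

/-!
# The index of a lattice in its saturation (helper482)

* `det_le_pow` : a positive semidefinite real matrix with diagonal `N` has determinant at most `N ^ d`;
* `exists_mult` : `v : Fin d → ℤ^l` independent, of the same length `N` with respect to a positive definite integral form,
  `z j ∈ ℤ^l` in the rational span of `v`: the multiples `n z j`, `n ^ 2 ≤ N ^ d`, are integral combinations.
-/

set_option autoImplicit false

namespace Cfsg.Agent.H482.TwoCyc.Gram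

open Matrix

theorem det_le_pow {d : ℕ} {G : Matrix (Fin d) (Fin d) ℝ} (hG : G.PosSemidef) {N : ℝ} (hN : ∀ i, G i i = N) :
    G.det ≤ N ^ d := by
  rcases Nat.eq_zero_or_pos d with rfl | hd
  · simp
  have hH := hG.1
  have h1 : G.det = ∏ i, hH.eigenvalues i := by
    have := hH.det_eq_prod_eigenvalues
    simpa using this
  have h2 : ∑ i, hH.eigenvalues i = d * N := by
    have := hH.trace_eq_sum_eigenvalues
    rw [Matrix.trace] at this
    simp only [Matrix.diag_apply, hN, Finset.sum_const, Finset.card_univ, Fintype.card_fin, nsmul_eq_mul] at this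
    rw [this]
    simp
  have h3 : ∀ i, 0 ≤ hH.eigenvalues i := hG.eigenvalues_nonneg
  have hd' : (0 : ℝ) < d := by exact_mod_cast hd
  have h5 := Real.geom_mean_le_arith_mean_weighted Finset.univ (fun _ : Fin d => (1 : ℝ) / d) hH.eigenvalues
    (fun _ _ => by positivity) (by simp; field_simp) (fun i _ => h3 i)
  rw [← Finset.mul_sum, h2] at h5
  have h6 : (1 : ℝ) / d * (d * N) = N := by field_simp
  rw [h6] at h5
  have h7 : ∏ i, hH.eigenvalues i = (∏ i, hH.eigenvalues i ^ ((1 : ℝ) / d)) ^ d := by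
    rw [← Finset.prod_pow]
    refine Finset.prod_congr rfl fun i _ => ?_
    rw [← Real.rpow_natCast, ← Real.rpow_mul (h3 i)]
    rw [one_div, inv_mul_cancel₀ hd'.ne', Real.rpow_one]
  rw [h1, h7]
  exact pow_le_pow_left₀ (Finset.prod_nonneg fun i _ => Real.rpow_nonneg (h3 i) _) h5 d

theorem lcm_sq_dvd {a b D : ℕ} (ha : a ^ 2 ∣ D) (hb : b ^ 2 ∣ D) : (Nat.lcm a b) ^ 2 ∣ D := by
  rcases Nat.eq_zero_or_pos D with rfl | hD
  · exact dvd_zero _
  have ha0 : a ≠ 0 := by rintro rfl; simp at ha; omega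
  have hb0 : b ≠ 0 := by rintro rfl; simp at hb; omega
  rw [← Nat.factorization_le_iff_dvd (pow_ne_zero _ (Nat.lcm_ne_zero ha0 hb0)) hD.ne']
  rw [← Nat.factorization_le_iff_dvd (pow_ne_zero _ ha0) hD.ne'] at ha
  rw [← Nat.factorization_le_iff_dvd (pow_ne_zero _ hb0) hD.ne'] at hb
  intro p
  have h1 := ha p
  have h2 := hb p
  rw [Nat.factorization_pow] at h1 h2 ⊢
  rw [Nat.factorization_lcm ha0 hb0]
  simp only [Finsupp.smul_apply, Finsupp.sup_apply, smul_eq_mul] at *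
  rcases le_total (a.factorization p) (b.factorization p) with h | h
  · rw [sup_of_le_right h]; exact h2
  · rw [sup_of_le_left h]; exact h1

theorem lcm_finset_sq_dvd {ι : Type*} [DecidableEq ι] (s : Finset ι) (f : ι → ℕ) {D : ℕ} (h : ∀ i ∈ s, f i ^ 2 ∣ D) :
    (s.lcm f) ^ 2 ∣ D := by
  induction s using Finset.induction_on with
  | empty => simp
  | insert a s _ ih =>
    rw [Finset.lcm_insert]
    exact lcm_sq_dvd (h a (Finset.mem_insert_self _ _)) (ih fun i hi => h i (Finset.mem_insert_of_mem hi))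

/-- **The index bound.** -/
theorem exists_mult' {l d : ℕ} (A : Matrix (Fin l) (Fin l) ℤ) (hA : A.IsSymm)
    (hpos : ∀ x : Fin l → ℝ, x ≠ 0 → 0 < x ⬝ᵥ (A.map (Int.cast : ℤ → ℝ)) *ᵥ x) (v : Fin d → Fin l → ℤ)
    (hv : LinearIndependent ℚ (fun i => (fun j => (v i j : ℚ)))) {N : ℕ} (hN : ∀ i, v i ⬝ᵥ A *ᵥ v i = N) :
    ∃ D : ℕ, 0 < D ∧ D ≤ N ^ d ∧ ∀ (z : Fin l → ℤ) (c : Fin d → ℚ), (∀ j, (z j : ℚ) = ∑ i, c i * v i j) →
    ∃ n : ℕ, 0 < n ∧ n ^ 2 ∣ D ∧ ∃ m : Fin d → ℤ, ∀ j, (n : ℤ) * z j = ∑ i, m i * v i j := by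
  set Vm : Matrix (Fin d) (Fin l) ℤ := Matrix.of v with hVm
  set G : Matrix (Fin d) (Fin d) ℤ := Vm * A * Vmᵀ with hG
  have hGR : (G.map (Int.cast : ℤ → ℝ)) = (Vm.map (Int.cast : ℤ → ℝ)) * (A.map (Int.cast : ℤ → ℝ)) *
      (Vm.map (Int.cast : ℤ → ℝ))ᵀ := by
    have h1 : ∀ {a b : ℕ} (M : Matrix (Fin a) (Fin b) ℤ), M.map (Int.cast : ℤ → ℝ) = M.map (Int.castRingHom ℝ) :=
      fun M => rfl
    rw [h1, h1, h1, hG, Matrix.map_mul, Matrix.map_mul, Matrix.transpose_map]
  have hsym : Gᵀ = G := by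
    rw [hG, Matrix.transpose_mul, Matrix.transpose_mul, Matrix.transpose_transpose, hA.eq, Matrix.mul_assoc]
  have hpd : (G.map (Int.cast : ℤ → ℝ)).PosSemidef := by
    rw [Matrix.posSemidef_iff_dotProduct_mulVec]
    constructor
    · rw [Matrix.IsHermitian, Matrix.conjTranspose_eq_transpose_of_trivial, ← Matrix.transpose_map, hsym]
    · intro x
      rw [hGR]
      have e : star x = x := by simp
      rw [e, ← Matrix.mulVec_mulVec, ← Matrix.mulVec_mulVec, Matrix.dotProduct_mulVec]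
      rw [Matrix.mulVec_transpose]
      by_cases h1 : x ᵥ* (Vm.map (Int.cast : ℤ → ℝ)) = 0
      · rw [h1]; simp
      · exact (hpos _ h1).le
  set D : ℤ := G.det with hD
  have hDR : (D : ℝ) = (G.map (Int.cast : ℤ → ℝ)).det := by
    rw [hD]
    exact (Int.castRingHom ℝ).map_det G
  have hD0 : D ≠ 0 := by
    intro h0
    have h1 : (G.map (Int.castRingHom ℚ)).det = 0 := by
      have := (Int.castRingHom ℚ).map_det G
      rw [← RingHom.mapMatrix_apply, ← this, ← hD, h0, map_zero]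
    obtain ⟨x, hx, hx0⟩ := Matrix.exists_mulVec_eq_zero_iff.2 h1
    obtain ⟨y, hy⟩ : ∃ y, y = x ᵥ* (Vm.map (Int.castRingHom ℚ)) := ⟨_, rfl⟩
    have hy0 : y ≠ 0 := by
      intro h0
      apply hx
      rw [Fintype.linearIndependent_iff] at hv
      funext i
      refine hv x ?_ i
      funext j
      have h2 := congrFun (hy.symm.trans h0) j
      rw [Matrix.vecMul, dotProduct] at h2
      simpa [Finset.sum_apply, Vm] using h2
    have h2 : y ⬝ᵥ (A.map (Int.castRingHom ℚ)) *ᵥ y = 0 := by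
      have h3 : x ⬝ᵥ (G.map (Int.castRingHom ℚ)) *ᵥ x = 0 := by rw [hx0]; simp
      rw [hG, Matrix.map_mul, Matrix.map_mul, Matrix.transpose_map, ← Matrix.mulVec_mulVec, ← Matrix.mulVec_mulVec,
        Matrix.dotProduct_mulVec, Matrix.mulVec_transpose, ← hy] at h3
      exact h3
    have h4 := hpos (fun j => (y j : ℝ)) (fun h => hy0 (funext fun j => by
      have h6 : (y j : ℝ) = 0 := congrFun h j
      rw [Pi.zero_apply]
      exact_mod_cast h6))
    have h5 : ((y ⬝ᵥ (A.map (Int.castRingHom ℚ)) *ᵥ y : ℚ) : ℝ) =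
        (fun j => (y j : ℝ)) ⬝ᵥ (A.map (Int.cast : ℤ → ℝ)) *ᵥ (fun j => (y j : ℝ)) := by
      simp only [dotProduct, Matrix.mulVec, Matrix.map_apply, Rat.cast_sum, Rat.cast_mul, eq_intCast, Rat.cast_intCast]
    rw [← h5, h2, Rat.cast_zero] at h4
    exact lt_irrefl _ h4
  have hDpos : 0 < D := by
    have := hpd.det_nonneg
    rw [← hDR] at this
    have h1 : 0 ≤ D := by exact_mod_cast this
    omega
  have hGG : ∀ (V : Matrix (Fin d) (Fin l) ℤ) (i j : Fin d), (V * A * Vᵀ) i j = V i ⬝ᵥ A *ᵥ V j := by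
    intro V i j
    rw [Matrix.mul_assoc]
    simp only [Matrix.mul_apply, dotProduct, Matrix.mulVec, Matrix.transpose_apply]
  have hDle : D ≤ (N : ℤ) ^ d := by
    have h1 := det_le_pow hpd (N := N) (fun i => by
      rw [Matrix.map_apply, hG, hGG]
      have h2 : Vm i ⬝ᵥ A *ᵥ Vm i = N := hN i
      rw [h2]
      norm_num)
    rw [← hDR] at h1
    exact_mod_cast h1
  obtain ⟨D', hD'⟩ : ∃ D' : ℕ, D = D' := ⟨D.toNat, (Int.toNat_of_nonneg hDpos.le).symm⟩
  refine ⟨D', by
    have : (0 : ℤ) < D' := by rw [← hD']; exact hDpos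
    exact_mod_cast this, by
    rw [hD'] at hDle
    exact_mod_cast hDle, ?_⟩
  intro z c hz
  have hsq : ∀ i, (c i).den ^ 2 ∣ D' := by
    intro i
    -- the matrix with the `i`-th row replaced by `z`
    set Vi : Matrix (Fin d) (Fin l) ℤ := Vm.updateRow i z with hVi
    set E : Matrix (Fin d) (Fin d) ℚ := (1 : Matrix (Fin d) (Fin d) ℚ).updateRow i c with hE
    have hdE : E.det = c i := by
      rw [hE, ← Matrix.det_transpose, ← Matrix.updateCol_transpose, Matrix.transpose_one]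
      have := congrFun (congrFun (congrArg DFunLike.coe (Matrix.cramer_one (n := Fin d) (α := ℚ))) c) i
      rw [Matrix.cramer_apply] at this
      simpa using this
    have hEV : E * Vm.map (Int.cast : ℤ → ℚ) = Vi.map (Int.cast : ℤ → ℚ) := by
      ext a b
      rw [Matrix.mul_apply, Matrix.map_apply]
      by_cases ha : a = i
      · subst ha
        rw [hE, hVi]
        simp only [Matrix.updateRow_self]
        rw [hz b]
        rfl
      · rw [hE, hVi]
        simp only [Matrix.updateRow_ne ha]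
        rw [Finset.sum_eq_single a]
        · rw [Matrix.one_apply_eq, one_mul, Matrix.map_apply]
        · intro x _ hx
          rw [Matrix.one_apply_ne (Ne.symm hx), zero_mul]
        · intro h; exact absurd (Finset.mem_univ a) h
    have h1 : ∀ {a b : ℕ} (M : Matrix (Fin a) (Fin b) ℤ), M.map (Int.cast : ℤ → ℚ) = M.map (Int.castRingHom ℚ) :=
      fun M => rfl
    have h2 : ((Vi * A * Viᵀ).det : ℚ) = c i * D * c i := by
      have h3 : (((Vi * A * Viᵀ).det : ℤ) : ℚ) = ((Vi * A * Viᵀ).map (Int.castRingHom ℚ)).det :=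
        (Int.castRingHom ℚ).map_det _
      have h4 : ((D : ℤ) : ℚ) = (G.map (Int.castRingHom ℚ)).det := (Int.castRingHom ℚ).map_det _
      have h5 : (Vi * A * Viᵀ).map (Int.castRingHom ℚ) = E * G.map (Int.castRingHom ℚ) * Eᵀ := by
        rw [Matrix.map_mul, Matrix.map_mul, Matrix.transpose_map, ← h1 Vi, ← hEV, hG, Matrix.map_mul,
          Matrix.map_mul, Matrix.transpose_map, Matrix.transpose_mul, ← h1 Vm]
        simp only [Matrix.mul_assoc]
      rw [h3, h4, h5, Matrix.det_mul, Matrix.det_mul, Matrix.det_transpose, hdE]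
    have h3 : (c i).den ^ 2 ∣ ((c i).num ^ 2).natAbs * D' := by
      have h4 : ((c i).num ^ 2 * D' : ℤ) = (Vi * A * Viᵀ).det * ((c i).den : ℤ) ^ 2 := by
        have h5 : ((c i).num : ℚ) = c i * (c i).den := (Rat.mul_den_eq_num (c i)).symm
        have h6 : (((c i).num ^ 2 * D' : ℤ) : ℚ) = (((Vi * A * Viᵀ).det * ((c i).den : ℤ) ^ 2 : ℤ) : ℚ) := by
          rw [Int.cast_mul, Int.cast_mul, Int.cast_pow, Int.cast_pow, Int.cast_natCast, Int.cast_natCast, h2, h5,
            hD', Int.cast_natCast]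
          ring
        exact_mod_cast h6
      have h5 : (((c i).den ^ 2 : ℕ) : ℤ) ∣ (((c i).num ^ 2).natAbs * D' : ℤ) := by
        rw [Int.natAbs_of_nonneg (sq_nonneg _), h4]
        push_cast
        exact Dvd.intro_left _ rfl
      exact_mod_cast h5
    refine Nat.Coprime.dvd_of_dvd_mul_left ?_ h3
    rw [Int.natAbs_pow]
    exact Nat.Coprime.pow 2 2 (c i).reduced.symm
  refine ⟨Finset.univ.lcm fun i => (c i).den, ?_, ?_, ?_⟩
  · rw [Nat.pos_iff_ne_zero]
    intro h0
    rw [Finset.lcm_eq_zero_iff] at h0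
    obtain ⟨i, -, hi⟩ := h0
    exact (c i).den_nz hi
  · exact lcm_finset_sq_dvd Finset.univ (fun i => (c i).den) fun i _ => hsq i
  · have h1 : ∀ i, ∃ m : ℤ, ((Finset.univ.lcm fun i => (c i).den : ℕ) : ℚ) * c i = m := by
      intro i
      obtain ⟨b, hb⟩ := Finset.dvd_lcm (s := Finset.univ) (f := fun i => (c i).den) (Finset.mem_univ i)
      refine ⟨b * (c i).num, ?_⟩
      rw [hb]
      push_cast
      rw [← Rat.mul_den_eq_num (c i)]
      ring
    choose m hm using h1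
    refine ⟨m, fun j => ?_⟩
    have h2 : (((Finset.univ.lcm fun i => (c i).den : ℕ) : ℤ) : ℚ) * (z j : ℚ) = ∑ i, (m i : ℚ) * (v i j : ℚ) := by
      rw [hz j, Finset.mul_sum]
      refine Finset.sum_congr rfl fun i _ => ?_
      rw [← hm i]
      push_cast
      ring
    exact_mod_cast h2

/-- the uniform version -/
theorem exists_mult {l d : ℕ} (A : Matrix (Fin l) (Fin l) ℤ) (hA : A.IsSymm)
    (hpos : ∀ x : Fin l → ℝ, x ≠ 0 → 0 < x ⬝ᵥ (A.map (Int.cast : ℤ → ℝ)) *ᵥ x) (v : Fin d → Fin l → ℤ)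
    (hv : LinearIndependent ℚ (fun i => (fun j => (v i j : ℚ)))) {N : ℕ} (hN : ∀ i, v i ⬝ᵥ A *ᵥ v i = N)
    {ι : Type*} [Fintype ι] (z : ι → Fin l → ℤ) (hz : ∀ a, ∃ c : Fin d → ℚ, ∀ j, (z a j : ℚ) = ∑ i, c i * v i j) :
    ∃ n : ℕ, 0 < n ∧ n ^ 2 ≤ N ^ d ∧ ∀ a, ∃ m : Fin d → ℤ, ∀ j, (n : ℤ) * z a j = ∑ i, m i * v i j := by
  classical
  obtain ⟨D, hD, hDN, h⟩ := exists_mult' A hA hpos v hv hN
  choose c hc using hz
  choose n hn hnD m hm using fun a => h (z a) (c a) (hc a)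
  refine ⟨Finset.univ.lcm n, ?_, ?_, fun a => ?_⟩
  · rw [Nat.pos_iff_ne_zero]
    intro h0
    rw [Finset.lcm_eq_zero_iff] at h0
    obtain ⟨i, -, hi⟩ := h0
    exact (hn i).ne' hi
  · exact (Nat.le_of_dvd hD (lcm_finset_sq_dvd Finset.univ n fun i _ => hnD i)).trans hDN
  · obtain ⟨b, hb⟩ := Finset.dvd_lcm (s := Finset.univ) (f := n) (Finset.mem_univ a)
    refine ⟨fun i => b * m a i, fun j => ?_⟩
    rw [hb]
    push_cast
    rw [mul_comm (n a : ℤ), mul_assoc, hm a j, Finset.mul_sum]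
    exact Finset.sum_congr rfl fun i _ => by ring

end Cfsg.Agent.H482.TwoCyc.Gram
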