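import Mathlib

/-!
# Polynomials of endomorphisms of finite order (helper482)

* `exists_poly` : `R ^ N = 1`, `U` stable under `R`: a product of distinct cyclotomic polynomials of total degree at most
  `dim V - dim U` maps `V` into `U`;
* `eval_le` : the value at `q` is at most `(q + 1) ^ deg`.
-/

set_option autoImplicit false

namespace Cfsg.Agent.H482.TwoCyc.Poly

open Polynomial

theorem exists_poly {V : Type*} [AddCommGroup V] [Module ℚ V] [FiniteDimensional ℚ V] (R : Module.End ℚ V) {N : ℕ}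
    (hN : 0 < N) (hR : R ^ N = 1) (U : Submodule ℚ V) (hU : ∀ x ∈ U, R x ∈ U) :
    ∃ S : Finset ℕ, (∀ n ∈ S, 0 < n) ∧ ∑ n ∈ S, Nat.totient n + Module.finrank ℚ U ≤ Module.finrank ℚ V ∧
      ∀ v, aeval R (∏ n ∈ S, cyclotomic n ℚ) v ∈ U := by
  classical
  have hU' : U ≤ U.comap R := fun x hx => hU x hx
  let Rq : Module.End ℚ (V ⧸ U) := U.mapQ U R hU'
  have hmk : ∀ (p : ℚ[X]) (v : V), aeval Rq p (Submodule.Quotient.mk v) = Submodule.Quotient.mk (aeval R p v) := by
    intro p
    induction p using Polynomial.induction_on' with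
    | add p q hp hq =>
      intro v
      rw [map_add, map_add, LinearMap.add_apply, LinearMap.add_apply, hp, hq, Submodule.Quotient.mk_add]
    | monomial n a =>
      intro v
      have h1 : ∀ v, (Rq ^ n) (Submodule.Quotient.mk v) = Submodule.Quotient.mk ((R ^ n) v) := by
        induction n with
        | zero => intro v; rfl
        | succ n ih =>
          intro v
          rw [pow_succ, pow_succ, Module.End.mul_apply, Module.End.mul_apply]
          have : Rq (Submodule.Quotient.mk v) = Submodule.Quotient.mk (R v) := rfl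
          rw [this, ih]
      rw [← C_mul_X_pow_eq_monomial, map_mul, map_mul, aeval_C, aeval_C, map_pow, map_pow, aeval_X, aeval_X,
        Module.End.mul_apply, Module.End.mul_apply, h1, Module.algebraMap_end_apply, Module.algebraMap_end_apply,
        Submodule.Quotient.mk_smul]
  have hdvd : minpoly ℚ Rq ∣ X ^ N - 1 := by
    apply minpoly.dvd
    apply LinearMap.ext
    intro x
    obtain ⟨v, rfl⟩ := Submodule.Quotient.mk_surjective U x
    rw [hmk, map_sub, map_pow, aeval_X, map_one, hR, sub_self, LinearMap.zero_apply, LinearMap.zero_apply,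
      Submodule.Quotient.mk_zero]
  have hμ0 : minpoly ℚ Rq ≠ 0 := fun h0 => by
    rw [h0, zero_dvd_iff] at hdvd
    exact (X_pow_sub_C_ne_zero hN (1 : ℚ)) (by rw [map_one]; exact hdvd)
  set S : Finset ℕ := N.divisors.filter fun n => cyclotomic n ℚ ∣ minpoly ℚ Rq with hS
  have hpos : ∀ n ∈ N.divisors, 0 < n := fun n hn => Nat.pos_of_mem_divisors hn
  have hcop : ∀ n ∈ N.divisors, ∀ m ∈ N.divisors, n ≠ m → IsCoprime (cyclotomic n ℚ) (cyclotomic m ℚ) :=
    fun n _ m _ h => cyclotomic.isCoprime_rat h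
  have h1 : ∏ n ∈ S, cyclotomic n ℚ ∣ minpoly ℚ Rq := by
    apply Finset.prod_dvd_of_coprime
    · intro n hn m hm h
      exact hcop n (Finset.mem_filter.1 hn).1 m (Finset.mem_filter.1 hm).1 h
    · intro n hn
      exact (Finset.mem_filter.1 hn).2
  have h2 : minpoly ℚ Rq ∣ ∏ n ∈ S, cyclotomic n ℚ := by
    have h3 : minpoly ℚ Rq ∣ (∏ n ∈ S, cyclotomic n ℚ) *
        ∏ n ∈ N.divisors.filter (fun n => ¬ cyclotomic n ℚ ∣ minpoly ℚ Rq), cyclotomic n ℚ := by
      rw [hS, Finset.prod_filter_mul_prod_filter_not, prod_cyclotomic_eq_X_pow_sub_one hN]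
      exact hdvd
    refine IsCoprime.dvd_of_dvd_mul_right ?_ h3
    apply IsCoprime.prod_right
    intro n hn
    obtain ⟨hn1, hn2⟩ := Finset.mem_filter.1 hn
    rw [isCoprime_comm]
    exact ((cyclotomic.irreducible_rat (hpos n hn1)).coprime_iff_not_dvd).2 hn2
  refine ⟨S, fun n hn => hpos n (Finset.mem_filter.1 hn).1, ?_, ?_⟩
  · have h3 : (∏ n ∈ S, cyclotomic n ℚ).natDegree = ∑ n ∈ S, Nat.totient n := by
      rw [natDegree_prod _ _ fun n _ => cyclotomic_ne_zero n ℚ]
      exact Finset.sum_congr rfl fun n _ => natDegree_cyclotomic n ℚ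
    have h4 := natDegree_le_of_dvd h1 hμ0
    have h5 : (minpoly ℚ Rq).natDegree ≤ Module.finrank ℚ (V ⧸ U) := by
      rw [← LinearMap.charpoly_natDegree Rq]
      exact natDegree_le_of_dvd (LinearMap.minpoly_dvd_charpoly Rq) (LinearMap.charpoly_monic Rq).ne_zero
    have h6 := Submodule.finrank_quotient_add_finrank U
    omega
  · intro v
    rw [← Submodule.Quotient.mk_eq_zero, ← hmk]
    obtain ⟨c, hc⟩ := h2
    rw [hc, map_mul, minpoly.aeval, zero_mul, LinearMap.zero_apply]

theorem eval_pos (q : ℕ) (hq : 2 ≤ q) (S : Finset ℕ) : 0 < (∏ n ∈ S, cyclotomic n ℤ).eval (q : ℤ) := by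
  rw [eval_prod]
  apply Finset.prod_pos
  intro n _
  exact cyclotomic_pos' n (by exact_mod_cast hq)

theorem eval_le (q : ℕ) (hq : 2 ≤ q) (S : Finset ℕ) :
    (∏ n ∈ S, cyclotomic n ℤ).eval (q : ℤ) ≤ ((q : ℤ) + 1) ^ ∑ n ∈ S, Nat.totient n := by
  have key : ∀ n, (cyclotomic n ℤ).eval (q : ℤ) ≤ ((q : ℤ) + 1) ^ Nat.totient n := by
    intro n
    have h1 := cyclotomic_eval_le_add_one_pow_totient (q := (q : ℝ)) (by exact_mod_cast hq) n
    rw [← map_cyclotomic_int n ℝ, ← Int.cast_natCast (R := ℝ) q, eval_intCast_map] at h1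
    have h2 : (((cyclotomic n ℤ).eval (q : ℤ) : ℤ) : ℝ) ≤ ((((q : ℤ) + 1) ^ Nat.totient n : ℤ) : ℝ) := by
      push_cast
      simpa using h1
    exact_mod_cast h2
  rw [eval_prod, ← Finset.prod_pow_eq_pow_sum]
  exact Finset.prod_le_prod (fun n _ => (cyclotomic_pos' n (by exact_mod_cast hq)).le) fun n _ => key n

end Cfsg.Agent.H482.TwoCyc.Poly
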