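import Cfsg.Agent.H482.TwoCyc.Gram
import Cfsg.Agent.H482.TwoCyc.Poly
import Cfsg.Agent.H129.TorusChar

/-!
# Characters of a lattice with `χ ∘ R = χ ^ q` (helper482)

* `chi_poly` : `χ (P(R) x) = χ(x) ^ P(q)`;
* `semi` : `χ ^ N = 1` with `N = ∏ Φ_n(q)`, a product of distinct cyclotomic polynomials of total degree at most `l`;
* `levi` : if `χ a = 1`: `χ ^ (n N) = 1`, total degree at most `l - d`, `n ^ 2 ≤ |a| ^ (2 d)`, `1 ≤ d`.
-/

set_option autoImplicit false

namespace Cfsg.Agent.H482.TwoCyc.Lat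

open Polynomial Cfsg.Agent.H129.TorusChar Matrix

variable {l : ℕ}

/-- the rational vector -/
def cst (x : Fin l → ℤ) : Fin l → ℚ := fun j => (x j : ℚ)

theorem cst_add (x y : Fin l → ℤ) : cst (x + y) = cst x + cst y := by
  funext j; simp [cst]

theorem cst_smul (n : ℤ) (x : Fin l → ℤ) : cst (n • x) = (n : ℚ) • cst x := by
  funext j; simp [cst]

theorem cst_inj {x y : Fin l → ℤ} (h : cst x = cst y) : x = y := by
  funext j
  have := congrFun h j
  simpa [cst] using this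

/-- the rational extension -/
noncomputable def RQ (R : Module.End ℤ (Fin l → ℤ)) : Module.End ℚ (Fin l → ℚ) :=
  Matrix.toLin' ((LinearMap.toMatrix' R).map (Int.castRingHom ℚ))

theorem RQ_cst (R : Module.End ℤ (Fin l → ℤ)) (x : Fin l → ℤ) : RQ R (cst x) = cst (R x) := by
  have h1 : R x = (LinearMap.toMatrix' R) *ᵥ x := (LinearMap.toMatrix'_mulVec R x).symm
  rw [RQ, Matrix.toLin'_apply, h1]
  funext j
  simp only [Matrix.mulVec, dotProduct, cst, Matrix.map_apply, eq_intCast, Int.cast_sum, Int.cast_mul]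

theorem pow_cst (R : Module.End ℤ (Fin l → ℤ)) (n : ℕ) (x : Fin l → ℤ) :
    (RQ R ^ n) (cst x) = cst ((R ^ n) x) := by
  induction n generalizing x with
  | zero => rfl
  | succ n ih => rw [pow_succ, pow_succ, Module.End.mul_apply, Module.End.mul_apply, RQ_cst, ih]

theorem aeval_cst (R : Module.End ℤ (Fin l → ℤ)) (P : ℤ[X]) (x : Fin l → ℤ) :
    aeval (RQ R) (P.map (Int.castRingHom ℚ)) (cst x) = cst (aeval R P x) := by
  induction P using Polynomial.induction_on' with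
  | add p q hp hq =>
    rw [Polynomial.map_add, map_add, map_add, LinearMap.add_apply, LinearMap.add_apply, hp, hq, cst_add]
  | monomial n a =>
    rw [← C_mul_X_pow_eq_monomial, Polynomial.map_mul, Polynomial.map_C, Polynomial.map_pow, Polynomial.map_X,
      map_mul, map_mul, aeval_C, aeval_C, map_pow, map_pow, aeval_X, aeval_X, Module.End.mul_apply,
      Module.End.mul_apply, pow_cst, Module.algebraMap_end_apply, Module.algebraMap_end_apply, cst_smul]
    rfl

theorem RQ_pow {R : Module.End ℤ (Fin l → ℤ)} {M : ℕ} (h : R ^ M = 1) : RQ R ^ M = 1 := by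
  refine (Pi.basisFun ℚ (Fin l)).ext fun i => ?_
  have h1 : (Pi.basisFun ℚ (Fin l)) i = cst (Pi.single i 1) := by
    funext j
    rw [Pi.basisFun_apply, cst]
    by_cases hj : j = i
    · subst hj; simp
    · simp [Pi.single_eq_of_ne hj]
  rw [h1, pow_cst, h]
  rfl

section Chi

variable {k : Type*} [Field k] {χ : (Fin l → ℤ) → k} (hχ : IsMC χ) {q : ℕ} {R : Module.End ℤ (Fin l → ℤ)}
  (hR : ∀ x, χ (R x) = χ x ^ q)

include hχ hR

theorem chi_poly (P : ℤ[X]) (x : Fin l → ℤ) : χ (aeval R P x) = χ x ^ (P.eval (q : ℤ)) := by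
  have h0 := hχ.ne_zero x
  induction P using Polynomial.induction_on' with
  | add p q hp hq =>
    rw [map_add, LinearMap.add_apply, hχ.add, hp, hq, eval_add, zpow_add₀ h0]
  | monomial n a =>
    have h1 : ∀ (n : ℕ) (x : Fin l → ℤ), χ ((R ^ n) x) = χ x ^ q ^ n := by
      intro n
      induction n with
      | zero => intro x; rw [pow_zero, pow_zero, pow_one]; rfl
      | succ n ih => intro x; rw [pow_succ, Module.End.mul_apply, ih, hR, ← pow_mul, pow_succ, mul_comm]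
    rw [← C_mul_X_pow_eq_monomial, map_mul, aeval_C, map_pow, aeval_X, Module.End.mul_apply,
      Module.algebraMap_end_apply, hχ.zsmul, h1, eval_mul, eval_C, eval_pow, eval_X, mul_comm a, _root_.zpow_mul]
    congr 1
    rw [← Nat.cast_pow, zpow_natCast]

/-- **Semisimple elements.** -/
theorem semi {M : ℕ} (hM : 0 < M) (hRM : R ^ M = 1) :
    ∃ S : Finset ℕ, (∀ n ∈ S, 0 < n) ∧ ∑ n ∈ S, Nat.totient n ≤ l ∧
      ∀ x, χ x ^ ((∏ n ∈ S, cyclotomic n ℤ).eval (q : ℤ)) = 1 := by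
  obtain ⟨S, hS, h1, h2⟩ := Poly.exists_poly (RQ R) hM (RQ_pow hRM) ⊥ (fun x hx => by
    rw [Submodule.mem_bot] at hx ⊢
    rw [hx, map_zero])
  rw [finrank_bot, add_zero, Module.finrank_fin_fun] at h1
  refine ⟨S, hS, h1, fun x => ?_⟩
  rw [← chi_poly hχ hR]
  have h3 := h2 (cst x)
  rw [Submodule.mem_bot] at h3
  have h4 : (∏ n ∈ S, cyclotomic n ℚ) = (∏ n ∈ S, cyclotomic n ℤ).map (Int.castRingHom ℚ) := by
    rw [Polynomial.map_prod]
    exact Finset.prod_congr rfl fun n _ => (map_cyclotomic n _).symm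
  rw [h4, aeval_cst] at h3
  have h5 : aeval R (∏ n ∈ S, cyclotomic n ℤ) x = 0 := cst_inj (by rw [h3]; funext j; simp [cst])
  rw [h5, hχ.zero]

/-- **Elements killing a vector.** -/
theorem levi {M : ℕ} (hM : 0 < M) (hRM : R ^ M = 1) (A : Matrix (Fin l) (Fin l) ℤ) (hA : A.IsSymm)
    (hpos : ∀ x : Fin l → ℝ, x ≠ 0 → 0 < x ⬝ᵥ (A.map (Int.cast : ℤ → ℝ)) *ᵥ x)
    (hinv : ∀ x : Fin l → ℤ, R x ⬝ᵥ A *ᵥ R x = x ⬝ᵥ A *ᵥ x) {a : Fin l → ℤ} (ha : a ≠ 0) (hχa : χ a = 1) {N : ℕ}
    (hN : a ⬝ᵥ A *ᵥ a = N) (φ : (Fin l → ℤ) →ₗ[ℤ] ℤ) (hφ : φ a = 1) :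
    ∃ d n : ℕ, 1 ≤ d ∧ 0 < n ∧ n ^ 2 ≤ N ^ d ∧ (d = 1 → n = 1) ∧ ∃ S : Finset ℕ, (∀ n ∈ S, 0 < n) ∧ ∑ n ∈ S, Nat.totient n + d ≤ l ∧
      ∀ x, χ x ^ (n * (∏ n ∈ S, cyclotomic n ℤ).eval (q : ℤ)) = 1 := by
  classical
  let w : ℕ → Fin l → ℚ := fun i => cst ((R ^ i) a)
  -- the length of the longest independent segment
  obtain ⟨d, hd, hd'⟩ : ∃ d, LinearIndependent ℚ (fun i : Fin d => w i) ∧
      ¬ LinearIndependent ℚ (fun i : Fin (d + 1) => w i) := by
    by_contra hcon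
    push Not at hcon
    have h1 : ∀ d, LinearIndependent ℚ (fun i : Fin d => w i) := by
      intro d
      induction d with
      | zero => exact linearIndependent_empty_type
      | succ d ih => exact hcon d ih
    have h2 := (h1 (l + 1)).fintype_card_le_finrank
    rw [Module.finrank_fin_fun, Fintype.card_fin] at h2
    omega
  have ha' : cst a ≠ 0 := fun h => ha (cst_inj (by rw [h]; funext j; simp [cst]))
  have hd1 : 1 ≤ d := by
    by_contra h0
    have : d = 0 := by omega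
    subst this
    apply hd'
    have : Subsingleton (Fin (0 + 1)) := inferInstanceAs (Subsingleton (Fin 1))
    refine LinearIndependent.of_subsingleton (0 : Fin (0 + 1)) ?_
    show cst ((R ^ 0) a) ≠ 0
    rw [pow_zero]
    exact ha'
  set U : Submodule ℚ (Fin l → ℚ) := Submodule.span ℚ (Set.range fun i : Fin d => w i) with hU
  have hwd : w d ∈ U := by
    by_contra hcon
    apply hd'
    rw [linearIndependent_finSucc']
    exact ⟨hd, hcon⟩
  have hUR : ∀ x ∈ U, RQ R x ∈ U := by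
    intro x hx
    induction hx using Submodule.span_induction with
    | mem x hx =>
      obtain ⟨i, rfl⟩ := hx
      have h1 : RQ R (w i) = w (i + 1) := by
        show RQ R (cst ((R ^ (i : ℕ)) a)) = cst ((R ^ ((i : ℕ) + 1)) a)
        rw [RQ_cst, pow_succ', Module.End.mul_apply]
      show RQ R (w i) ∈ U
      rw [h1]
      by_cases h2 : (i : ℕ) + 1 < d
      · exact Submodule.subset_span ⟨⟨_, h2⟩, rfl⟩
      · have h3 : (i : ℕ) + 1 = d := by have := i.2; omega
        rw [h3]; exact hwd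
    | zero => rw [map_zero]; exact zero_mem _
    | add x y _ _ hx hy => rw [map_add]; exact add_mem hx hy
    | smul c x _ hx => rw [map_smul]; exact U.smul_mem c hx
  have hrank : Module.finrank ℚ U = d := by
    rw [hU, finrank_span_eq_card hd, Fintype.card_fin]
  obtain ⟨S, hS, h1, h2⟩ := Poly.exists_poly (RQ R) hM (RQ_pow hRM) U hUR
  rw [hrank, Module.finrank_fin_fun] at h1
  have hNi : ∀ i : ℕ, (R ^ i) a ⬝ᵥ A *ᵥ (R ^ i) a = N := by
    intro i
    induction i with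
    | zero => exact hN
    | succ i ih => rw [pow_succ', Module.End.mul_apply, hinv, ih]
  have h4 : (∏ n ∈ S, cyclotomic n ℚ) = (∏ n ∈ S, cyclotomic n ℤ).map (Int.castRingHom ℚ) := by
    rw [Polynomial.map_prod]
    exact Finset.prod_congr rfl fun n _ => (map_cyclotomic n _).symm
  have hz : ∀ j : Fin l, ∃ c : Fin d → ℚ, ∀ i, ((aeval R (∏ n ∈ S, cyclotomic n ℤ) (Pi.single j 1) i : ℤ) : ℚ) =
      ∑ m, c m * (((R ^ (m : ℕ)) a i : ℤ) : ℚ) := by
    intro j
    have h3 := h2 (cst (Pi.single j 1))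
    rw [h4, aeval_cst, hU, Submodule.mem_span_range_iff_exists_fun] at h3
    obtain ⟨c, hc⟩ := h3
    refine ⟨c, fun i => ?_⟩
    have h6 := congrFun hc i
    rw [Finset.sum_apply] at h6
    exact h6.symm
  obtain ⟨n, hn, hnN, hn1, h5⟩ : ∃ n : ℕ, 0 < n ∧ n ^ 2 ≤ N ^ d ∧ (d = 1 → n = 1) ∧ ∀ j : Fin l, ∃ m : Fin d → ℤ,
      ∀ i, (n : ℤ) * aeval R (∏ n ∈ S, cyclotomic n ℤ) (Pi.single j 1) i = ∑ x, m x * (R ^ (x : ℕ)) a i := by
    by_cases hd2 : d = 1
    · have hNpos : 0 < N := by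
        have h6 := hpos (fun j => (a j : ℝ)) (fun h => ha (funext fun j => by
          have h7 : (a j : ℝ) = 0 := congrFun h j
          rw [Pi.zero_apply]
          exact_mod_cast h7))
        have h7 : ((a ⬝ᵥ A *ᵥ a : ℤ) : ℝ) = (fun i => (a i : ℝ)) ⬝ᵥ
            (A.map (Int.cast : ℤ → ℝ)) *ᵥ (fun i => (a i : ℝ)) := by
          simp only [dotProduct, Matrix.mulVec, Matrix.map_apply, Int.cast_sum, Int.cast_mul]
        rw [← h7, hN] at h6
        exact_mod_cast h6
      refine ⟨1, one_pos, by rw [one_pow]; exact Nat.one_le_pow _ _ hNpos, fun _ => rfl, fun j => ?_⟩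
      obtain ⟨c, hc⟩ := hz j
      subst hd2
      set z := aeval R (∏ n ∈ S, cyclotomic n ℤ) (Pi.single j 1) with hzd
      have hc' : ∀ i, (z i : ℚ) = c 0 * (a i : ℚ) := by
        intro i
        rw [hc i, Fin.sum_univ_one]
        rfl
      have h6 : ((c 0).den : ℤ) • z = (c 0).num • a := by
        funext i
        rw [Pi.smul_apply, Pi.smul_apply, smul_eq_mul, smul_eq_mul]
        have h7 : (((c 0).den : ℤ) : ℚ) * (z i : ℚ) = ((c 0).num : ℚ) * (a i : ℚ) := by
          rw [hc' i, ← Rat.mul_den_eq_num (c 0)]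
          push_cast
          ring
        exact_mod_cast h7
      have h7 := congrArg φ h6
      rw [map_smul, map_smul, hφ, smul_eq_mul, smul_eq_mul, mul_one] at h7
      refine ⟨fun _ => φ z, fun i => ?_⟩
      rw [Fin.sum_univ_one]
      have h8 : ((c 0).den : ℤ) ≠ 0 := by exact_mod_cast (c 0).den_nz
      have h9 := congrFun h6 i
      rw [Pi.smul_apply, Pi.smul_apply, smul_eq_mul, smul_eq_mul, ← h7] at h9
      have h10 : z i = φ z * a i := mul_left_cancel₀ h8 (by rw [h9]; ring)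
      rw [Nat.cast_one, one_mul, h10]
      rfl
    · obtain ⟨n, hn, hnN, h5⟩ := Gram.exists_mult A hA hpos (fun i : Fin d => (R ^ (i : ℕ)) a) hd (fun i => hNi i)
        (fun j : Fin l => aeval R (∏ n ∈ S, cyclotomic n ℤ) (Pi.single j 1)) hz
      exact ⟨n, hn, hnN, fun h => absurd h hd2, h5⟩
  refine ⟨d, n, hd1, hn, hnN, hn1, S, hS, h1, ?_⟩
  have hχR : ∀ i : ℕ, χ ((R ^ i) a) = 1 := by
    intro i
    induction i with
    | zero => exact hχa
    | succ i ih => rw [pow_succ', Module.End.mul_apply, hR, ih, one_pow]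
  have key : ∀ j : Fin l, χ (Pi.single j 1) ^ (n * (∏ n ∈ S, cyclotomic n ℤ).eval (q : ℤ)) = 1 := by
    intro j
    obtain ⟨m, hm⟩ := h5 j
    rw [mul_comm, _root_.zpow_mul, ← chi_poly hχ hR, ← hχ.zsmul]
    have h6 : (n : ℤ) • aeval R (∏ n ∈ S, cyclotomic n ℤ) (Pi.single j 1) = ∑ i : Fin d, m i • (R ^ (i : ℕ)) a := by
      funext i
      rw [Pi.smul_apply, smul_eq_mul, hm i, Finset.sum_apply]
      rfl
    rw [h6, hχ.sum_smul]
    exact Finset.prod_eq_one fun i _ => by rw [hχR, _root_.one_zpow]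
  intro x
  have h7 := hχ.eq_prod x
  have h8 : ∀ i : Fin l, (Tits.Roots.sr i : Fin l → ℤ) = Pi.single i 1 := fun i => rfl
  rw [h7, ← Finset.prod_zpow]
  refine Finset.prod_eq_one fun i _ => ?_
  rw [← _root_.zpow_mul, mul_comm (x i), _root_.zpow_mul, h8, key, _root_.one_zpow]

end Chi

end Cfsg.Agent.H482.TwoCyc.Lat
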