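import Mathlib

/-!
# Linear algebra for affine permutations with two cycles (helper482)

`p` a prime, `V` a vector space over `ZMod p`.
* `geom_end` : `1 + A + ... + A^(p^j-1) = (A - 1)^(p^j-1)`;
* `exists_split` : an endomorphism `B` with `B ^ r = 1`, `r` prime to `p`.
-/

set_option autoImplicit false

namespace Cfsg.Agent.H482.TwoCyc

open Polynomial

variable {p : ℕ} [hp : Fact p.Prime] {V : Type*} [AddCommGroup V] [Module (ZMod p) V]

theorem geom_poly (j : ℕ) :
    ∑ i ∈ Finset.range (p ^ j), (X : (ZMod p)[X]) ^ i = (X - 1) ^ (p ^ j - 1) := by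
  have hpos : 0 < p ^ j := pow_pos hp.out.pos j
  have h1 : (X - 1 : (ZMod p)[X]) * ∑ i ∈ Finset.range (p ^ j), (X : (ZMod p)[X]) ^ i = X ^ (p ^ j) - 1 :=
    mul_geom_sum _ _
  have h2 : (X - 1 : (ZMod p)[X]) * (X - 1) ^ (p ^ j - 1) = X ^ (p ^ j) - 1 := by
    rw [← pow_succ', Nat.sub_add_cancel hpos, sub_pow_char_pow, one_pow]
  have h3 : (X - 1 : (ZMod p)[X]) ≠ 0 := by
    have := X_sub_C_ne_zero (1 : ZMod p)
    rwa [C_1] at this
  exact mul_left_cancel₀ h3 (h1.trans h2.symm)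

theorem geom_end (A : Module.End (ZMod p) V) (j : ℕ) :
    ∑ i ∈ Finset.range (p ^ j), A ^ i = (A - 1) ^ (p ^ j - 1) := by
  have h := congrArg (aeval A) (geom_poly (p := p) j)
  rw [map_sum, map_pow, map_sub, aeval_X, map_one] at h
  rw [← h]
  refine Finset.sum_congr rfl fun i _ => ?_
  rw [map_pow, aeval_X]

/-- For `B ^ r = 1` with `r` invertible: `r v = S v - (B - 1) Q v` with `S = 1 + B + ...`, `Q`
commuting with `B`. -/
theorem exists_split (B : Module.End (ZMod p) V) (r : ℕ) :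
    ∃ Q : Module.End (ZMod p) V, Commute B Q ∧
      ∀ v, (r : ZMod p) • v = (∑ i ∈ Finset.range r, B ^ i) v - (B - 1) (Q v) := by
  have h1 : (X - C (1 : ZMod p)) ∣ (∑ i ∈ Finset.range r, (X : (ZMod p)[X]) ^ i) - C (r : ZMod p) := by
    have := X_sub_C_dvd_sub_C_eval (a := (1 : ZMod p)) (p := ∑ i ∈ Finset.range r, (X : (ZMod p)[X]) ^ i)
    simpa [eval_finsetSum] using this
  obtain ⟨q, hq⟩ := h1
  refine ⟨aeval B q, ?_, ?_⟩
  · have : Commute (aeval B (X : (ZMod p)[X])) (aeval B q) := (Commute.all _ _).map (aeval B)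
    rwa [aeval_X] at this
  · intro v
    have h2 := congrArg (aeval B) hq
    rw [map_sub, map_mul, map_sub, aeval_X, aeval_C, aeval_C, map_sum] at h2
    have h3 : (∑ i ∈ Finset.range r, aeval B ((X : (ZMod p)[X]) ^ i)) = ∑ i ∈ Finset.range r, B ^ i := by
      refine Finset.sum_congr rfl fun i _ => ?_
      rw [map_pow, aeval_X]
    rw [h3] at h2
    have h4 := LinearMap.congr_fun h2 v
    simp only [LinearMap.sub_apply, Module.End.mul_apply, Module.algebraMap_end_apply, one_smul] at h4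
    rw [LinearMap.sub_apply, Module.End.one_apply, ← h4]
    abel

end Cfsg.Agent.H482.TwoCyc
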