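import Cfsg.Agent.H378.NilExp

/-!
# Class two groups of odd exponent (helper482)

* `two_pow` : a group generated by elements of order dividing the odd number `p`, of class two, has exponent `p`;
* `odd_mem` : `x ∈ ⟨X a : a ∈ S⟩`, `S'` containing the sums of three elements of `S` : `x ^ p ∈ ⟨X a : a ∈ S'⟩`.
-/

set_option autoImplicit false
set_option linter.unusedSectionVars false

namespace Cfsg.Agent.H482.TwoCyc

open scoped commutatorElement
open Cfsg.Agent.H378.NilExp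

universe u

section Grp

variable {G : Type u} [Group G]

/-- class two, odd exponent -/
theorem two_pow {p : ℕ} (hodd : Odd p) {s : Set G} (hs : Subgroup.closure s = ⊤) {Z : Subgroup G}
    (hZ : ∀ z ∈ Z, ∀ x ∈ s, z * x = x * z)
    (hc : ∀ x ∈ s, ∀ y ∈ s, ⁅x, y⁆ ∈ Z) (h3 : ∀ x ∈ s, x ^ p = 1) (x : G) : x ^ p = 1 := by
  have hcen : ∀ z ∈ Z, ∀ x : G, z * x = x * z := by
    intro z hz x
    have hx : x ∈ Subgroup.closure s := by rw [hs]; exact Subgroup.mem_top x
    induction hx using Subgroup.closure_induction with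
    | mem x hx => exact hZ z hz x hx
    | one => rw [one_mul, mul_one]
    | mul a b _ _ ha hb => rw [← mul_assoc, ha, mul_assoc, hb, mul_assoc]
    | inv a _ ha => exact ((show Commute z a from ha).inv_right).eq
  -- the elements of `Z` of order dividing `p`
  let K : Subgroup G :=
    { carrier := {z | z ∈ Z ∧ z ^ p = 1}
      one_mem' := ⟨one_mem _, one_pow p⟩
      mul_mem' := fun {a b} ha hb => ⟨mul_mem ha.1 hb.1, by
        rw [(show Commute a b from hcen a ha.1 b).mul_pow, ha.2, hb.2, one_mul]⟩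
      inv_mem' := fun {a} ha => ⟨inv_mem ha.1, by rw [inv_pow, ha.2, inv_one]⟩ }
  have hpw : ∀ (x y c : G), (∀ g, c * g = g * c) → x * y = c * (y * x) → ∀ n : ℕ, x ^ n * y = c ^ n * (y * x ^ n) := by
    intro x y c hcc e n
    induction n with
    | zero => rw [pow_zero, pow_zero, one_mul, one_mul, mul_one]
    | succ n ih =>
      have hcn : x ^ n * c = c * x ^ n := (hcc _).symm
      calc x ^ (n + 1) * y = x ^ n * (x * y) := by rw [pow_succ, mul_assoc]
        _ = (x ^ n * c) * (y * x) := by rw [e, mul_assoc]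
        _ = c * (x ^ n * y) * x := by rw [hcn]; simp only [mul_assoc]
        _ = c ^ (n + 1) * (y * x ^ (n + 1)) := by rw [ih, pow_succ' c, pow_succ x]; simp only [mul_assoc]
  have hK : ∀ x ∈ s, ∀ y ∈ s, ⁅x, y⁆ ∈ K := by
    intro x hx y hy
    refine ⟨hc x hx y hy, ?_⟩
    set c := ⁅x, y⁆ with hcd
    have hcc : ∀ g, c * g = g * c := hcen c (hc x hx y hy)
    have e : x * y = c * (y * x) := by rw [hcd, commutatorElement_def]; group
    have h1 := hpw x y c hcc e p
    rw [h3 x hx, one_mul, mul_one] at h1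
    exact mul_eq_right.1 h1.symm
  -- all commutators are in `K`
  have hK1 : ∀ y ∈ s, ∀ x : G, ⁅x, y⁆ ∈ K := by
    intro y hy x
    have hx : x ∈ Subgroup.closure s := by rw [hs]; exact Subgroup.mem_top x
    induction hx using Subgroup.closure_induction with
    | mem x hx => exact hK x hx y hy
    | one => rw [commutatorElement_one_left]; exact one_mem _
    | mul a b _ _ ha hb =>
      have e : ⁅a * b, y⁆ = ⁅b, y⁆ * ⁅a, y⁆ := by
        have h1 : ⁅a * b, y⁆ = a * ⁅b, y⁆ * a⁻¹ * ⁅a, y⁆ := by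
          rw [commutatorElement_def, commutatorElement_def, commutatorElement_def]; group
        rw [h1, ← hcen _ hb.1 a, mul_inv_cancel_right]
      rw [e]
      exact mul_mem hb ha
    | inv a _ ha =>
      have e : ⁅a⁻¹, y⁆ = ⁅a, y⁆⁻¹ := by
        have h1 : ⁅a⁻¹, y⁆ = a⁻¹ * ⁅a, y⁆⁻¹ * a := by
          rw [commutatorElement_def, commutatorElement_def]; group
        rw [h1, ← hcen _ (inv_mem ha.1) a⁻¹, mul_assoc, inv_mul_cancel, mul_one]
      rw [e]
      exact inv_mem ha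
  have hK2 : ∀ x y : G, ⁅x, y⁆ ∈ K := by
    intro x y
    have hy : y ∈ Subgroup.closure s := by rw [hs]; exact Subgroup.mem_top y
    induction hy using Subgroup.closure_induction with
    | mem y hy => exact hK1 y hy x
    | one => rw [commutatorElement_one_right]; exact one_mem _
    | mul a b _ _ ha hb =>
      have e : ⁅x, a * b⁆ = ⁅x, a⁆ * ⁅x, b⁆ := by
        have h1 : ⁅x, a * b⁆ = ⁅x, a⁆ * (a * ⁅x, b⁆ * a⁻¹) := by
          rw [commutatorElement_def, commutatorElement_def, commutatorElement_def]; group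
        rw [h1, ← hcen _ hb.1 a, mul_inv_cancel_right]
      rw [e]
      exact mul_mem ha hb
    | inv a _ ha =>
      have e : ⁅x, a⁻¹⁆ = ⁅x, a⁆⁻¹ := by
        have h1 : ⁅x, a⁻¹⁆ = a⁻¹ * ⁅x, a⁆⁻¹ * a := by
          rw [commutatorElement_def, commutatorElement_def]; group
        rw [h1, ← hcen _ (inv_mem ha.1) a⁻¹, mul_assoc, inv_mul_cancel, mul_one]
      rw [e]
      exact inv_mem ha
  have hx : x ∈ Subgroup.closure s := by rw [hs]; exact Subgroup.mem_top x
  induction hx using Subgroup.closure_induction with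
  | mem x hx => exact h3 x hx
  | one => exact one_pow p
  | mul a b _ _ ha hb =>
    obtain ⟨hd, hd3⟩ := hK2 b a
    set d := ⁅b, a⁆ with hdd
    have hdc : ∀ g, d * g = g * d := hcen d hd
    have e : b * a = d * (a * b) := by rw [hdd, commutatorElement_def]; group
    have key : ∀ n : ℕ, (a * b) ^ n = d ^ (∑ i ∈ Finset.range n, i) * (a ^ n * b ^ n) := by
      intro n
      induction n with
      | zero => simp
      | succ n ih =>
        have h1 := hpw b a d hdc e n
        have h2 : ∀ (j : ℕ) (g : G), g * d ^ j = d ^ j * g := fun j g =>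
          ((show Commute d g from hdc g).pow_left j).eq.symm
        rw [pow_succ, ih, Finset.sum_range_succ]
        calc d ^ (∑ i ∈ Finset.range n, i) * (a ^ n * b ^ n) * (a * b) =
            d ^ (∑ i ∈ Finset.range n, i) * (a ^ n * (b ^ n * a) * b) := by simp only [mul_assoc]
          _ = d ^ (∑ i ∈ Finset.range n, i) * ((a ^ n * d ^ n) * (a * b ^ n) * b) := by
              rw [h1]; simp only [mul_assoc]
          _ = d ^ (∑ i ∈ Finset.range n, i) * d ^ n * (a ^ (n + 1) * b ^ (n + 1)) := by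
              rw [h2, pow_succ a, pow_succ b]; simp only [mul_assoc]
          _ = _ := by rw [pow_add d]
    have hsum : p ∣ ∑ i ∈ Finset.range p, i := by
      have h1 := Finset.sum_range_id_mul_two p
      obtain ⟨m, hm⟩ := hodd
      refine ⟨m, ?_⟩
      have h2 : p - 1 = 2 * m := by omega
      rw [h2] at h1
      have h3 : p * (2 * m) = (p * m) * 2 := by ring
      rw [h3] at h1
      exact Nat.eq_of_mul_eq_mul_right (by norm_num) h1
    obtain ⟨c, hcs⟩ := hsum
    rw [key, hcs, pow_mul, hd3, one_pow, one_mul, ha, hb, one_mul]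
  | inv a _ ha => rw [inv_pow, ha, inv_one]

theorem odd_mem_of_gen {p : ℕ} (hodd : Odd p) {s : Set G} {N Z : Subgroup G}
    (hN : Subgroup.closure s ≤ Subgroup.normalizer (N : Set G))
    (hZs : ∀ z ∈ Z, ∀ x ∈ s, ⁅z, x⁆ ∈ N) (hc : ∀ x ∈ s, ∀ y ∈ s, ⁅x, y⁆ ∈ Z) (h3 : ∀ x ∈ s, x ^ p ∈ N) {x : G}
    (hx : x ∈ Subgroup.closure s) : x ^ p ∈ N := by
  obtain ⟨Q, _, π, h1, h2⟩ := exists_quot hN
  have h3 := two_pow hodd h2 (Z := (Z.subgroupOf (Subgroup.closure s)).map π) (by
    rintro _ ⟨z, hz, rfl⟩ _ ⟨x, hx, rfl⟩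
    rw [← commutatorElement_eq_one_iff_mul_comm, ← map_commutatorElement, h1]
    exact hZs _ hz _ hx) (by
    rintro _ ⟨x, hx, rfl⟩ _ ⟨y, hy, rfl⟩
    rw [← map_commutatorElement]
    exact ⟨⁅x, y⁆, hc _ hx _ hy, rfl⟩) (by
    rintro _ ⟨x, hx, rfl⟩
    rw [← map_pow, h1]
    exact h3 _ hx) (π ⟨x, hx⟩)
  rw [← map_pow, h1] at h3
  exact h3

end Grp

open Cfsg.Agent.Nodes Cfsg.Agent.Nodes.BNOf

section Sup

variable {I Y : Type*} [Fintype I] [DecidableEq I] [Group Y] {X : (I → ℤ) → Subgroup Y} {S S₁ S' : Set (I → ℤ)}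

theorem odd_mem {p : ℕ} (hodd : Odd p) (hSS₁ : S₁ ⊆ S) (hSS : S' ⊆ S₁)
    (hc : ∀ a ∈ S, ∀ b ∈ S, ∀ x ∈ X a, ∀ y ∈ X b, ⁅x, y⁆ ∈ RGD.Sup X S₁)
    (hc' : ∀ a ∈ S₁, ∀ b ∈ S, ∀ x ∈ X a, ∀ y ∈ X b, ⁅x, y⁆ ∈ RGD.Sup X S')
    (hp : ∀ a ∈ S, ∀ x ∈ X a, x ^ p = 1) {x : Y} (hx : x ∈ RGD.Sup X S) : x ^ p ∈ RGD.Sup X S' := by
  have hN := le_normalizer_of (S := S) (S' := S') fun a ha b hb x hx y hy => by
    have h1 := hc' b (hSS hb) a ha y hy x hx
    rw [← commutatorElement_inv]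
    exact inv_mem h1
  have hN₁ := le_trans (RGD.Sup_mono (X := X) hSS₁) hN
  have hcc : ∀ z ∈ RGD.Sup X S₁, ∀ b ∈ S, ∀ x ∈ X b, ⁅z, x⁆ ∈ RGD.Sup X S' := fun z hz b hb x hx =>
    comm_Sup hN₁ (fun a ha y hy => hc' a ha b hb y hy x hx) hz
  rw [Sup_eq_closure X S] at hx hN
  refine odd_mem_of_gen hodd (Z := RGD.Sup X S₁) hN ?_ ?_ ?_ hx
  · rintro z hz x ⟨b, hb, hx⟩
    exact hcc z hz b hb x hx
  · rintro x ⟨a, ha, hx⟩ y ⟨b, hb, hy⟩
    exact hc a ha b hb x hx y hy
  · rintro x ⟨a, ha, hx⟩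
    rw [hp a ha x hx]
    exact one_mem _

end Sup

end Cfsg.Agent.H482.TwoCyc
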