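import Cfsg.Agent.H482.TwoCyc.NilP
import Cfsg.Agent.H482.TwoCyc.Lat
import Cfsg.Agent.H378.UnipCent
import Cfsg.Agent.H720.TorusReal

/-!
# Jordan decomposition of fixed elements of a Frobenius: semisimple and unipotent parts (helper482)

* `pair` : `s, u ∈ Y^σ` commuting, `s` of order prime to `p`, `u` of `p`-power order: a toral element `t` and its
  character `χ` with `χ (w (g x)) = χ x ^ q`, and `u` is conjugate into `⟨X a : a > 0, χ a = 1⟩`;
* `U_two`, `U_odd` : the exponent of `⟨X a : a > 0⟩` from the heights of the roots.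
-/

set_option autoImplicit false
set_option linter.unusedSectionVars false

namespace Cfsg.Agent.H482.TwoCyc.Pair

open CoxeterSystem Cfsg Cfsg.Lie Cfsg.Lie.ChevalleyDatum
open Cfsg.Agent.ChevalleyStructure Cfsg.Agent.ChevalleyStructure.Elts Cfsg.Agent.ChevalleyStructure.CoxeterGeom
  Cfsg.Agent.ChevalleyStructure.CoxeterGeomTypes Cfsg.Agent.ChevalleyStructure.NPerm
open Cfsg.Agent.Tits.Roots Cfsg.Agent.Tits.Core Cfsg.Agent.Nodes Cfsg.Agent.Nodes.Reps Cfsg.Agent.Nodes.BNOf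
  Cfsg.Agent.Nodes.RGDChev Cfsg.Agent.Nodes.Bruhat
open Cfsg.Agent.KFacts.RgdField Cfsg.Agent.KFacts.RgdChevCoord
open Cfsg.Agent.BpExc Cfsg.Agent.BpExc.TorCent Cfsg.Agent.BpExc.TorChev Cfsg.Agent.BpExc.Tow
  Cfsg.Agent.BpExc.TowChev Cfsg.Agent.BpExc.Fr Cfsg.Agent.BpExc.NInst
open Cfsg.Agent.H129.TorusChar Cfsg.Agent.BpExc.LangFr
open Cfsg.Agent.H378
open scoped commutatorElement

universe u v

variable {D : ChevalleyDatum} {l : ℕ} {M : CoxeterMatrix (Fin l)} (hp : IsType D l M) {k : Type u} [Field k]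
  {W : Type v} [Group W] (cs : CoxeterSystem M W)

section Pr

variable [IsAlgClosed k] [Finite W] {p e : ℕ} [Fact p.Prime] [CharP k p]
  {σ : MulAut ↥(D.group k)} {g : (Fin l → ℤ) ≃+ (Fin l → ℤ)}

/-- the twisted action on the characters -/
theorem fr_conj_chi (hk : LocFin k) (hσ : IsFrob p e σ) (F : Fr cs hp.isCartan (TT D k) (XX D l k) σ g)
    {hN : NSys M (TT D k) (nc hp k)} {w : W}
    {n t : ↥(D.group k)} (hn : Rp cs hN w n) (ht : t ∈ TT D k) (hnt : n * σ t * n⁻¹ = t)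
    (x : Fin l → ℤ) : cX hp t (rep cs hp.isCartan w (g x)) = cX hp t x ^ p ^ e := by
  have F1 := H720.TorusReal.fr_conj hp cs hk p hn
  have F2 : Fr cs hp.isCartan (TT D k) (XX D l k) (MulAut.conj n * σ) (g.trans (repAut cs hp.isCartan w)) :=
    F1.mul F
  have h1 := cX_sigma hp cs (hσ.conj_mul n) F2 ht x
  have h2 : (MulAut.conj n * σ) t = t := hnt
  rw [h2] at h1
  exact h1

/-- **Pairs of commuting elements.** -/
theorem pair (hk : LocFin k) (hka : BpExc.TorAll.HAlg p k) (hσ : IsFrob p e σ)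
    (F : Fr cs hp.isCartan (TT D k) (XX D l k) σ g) {s u : ↥(D.group k)} (hσs : σ s = s)
    (hsu : u * s = s * u) {m : ℕ} (hm : m ≠ 0) (hmp : m.Coprime p) (hsm : s ^ m = 1) {j : ℕ} (huj : u ^ p ^ j = 1) :
    ∃ (t : ↥(D.group k)) (w : W), t ∈ TT D k ∧
      (∀ x, cX hp t (rep cs hp.isCartan w (g x)) = cX hp t x ^ p ^ e) ∧ (∀ a : ℕ, (∀ x, cX hp t x ^ a = 1) → s ^ a = 1) ∧
      ∃ u' ∈ RGD.Sup (XX D l k) {a | IsRoot cs hp.isCartan a ∧ 0 ≤ a ∧ cX hp t a = 1}, ∀ a : ℕ, u' ^ a = 1 → u ^ a = 1 := by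
  have H := tow (k := k) hp cs hk p
  have hN : NSys M (TT D k) (nc hp k) := by
    have h1 := H.nsys
    rwa [TL_eq hp hk] at h1
  obtain ⟨z, t, n, w, hx, ht, hn, hnt⟩ := H720.TorusReal.exists_toral hp cs hka hk F hN hσs hm hmp hsm
  have hchi := fr_conj_chi hp cs hk hσ F hn ht hnt
  refine ⟨t, w, ht, hchi, ?_, ?_⟩
  · intro a ha
    have h2 : t ^ a = 1 := cX_inj hp (pow_mem ht a) (one_mem _) fun j => by
      rw [cX_pow hp ht, ha, cX_one]
    rw [hx, conj_pow, h2]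
    group
  · obtain ⟨g₂, hg₂, hU⟩ := UnipCent.exists_conj hp cs hk (p := p) ht (u := z⁻¹ * u * z) (j := j) (by
      have h1 : t = z⁻¹ * s * z := by rw [hx]; group
      rw [h1]
      calc z⁻¹ * u * z * (z⁻¹ * s * z) = z⁻¹ * (u * s) * z := by group
        _ = z⁻¹ * (s * u) * z := by rw [hsu]
        _ = _ := by group) (by
      have h1 := conj_pow (a := z⁻¹) (b := u) (i := p ^ j)
      rw [inv_inv] at h1
      rw [h1, huj]; group)
    refine ⟨g₂ * (z⁻¹ * u * z) * g₂⁻¹, RGD.Sup_mono (S := SP (Sx cs hp.isCartan (ch hp) t)) ?_ hU, ?_⟩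
    · intro a ha
      exact ⟨ha.1.1, ha.2, by rw [cX_root hp cs ht ha.1.1]; exact ha.1.2⟩
    · intro a h1
      have h2 : u = (g₂ * z⁻¹)⁻¹ * (g₂ * (z⁻¹ * u * z) * g₂⁻¹) * (g₂ * z⁻¹) := by group
      have h3 := conj_pow (a := (g₂ * z⁻¹)⁻¹) (b := g₂ * (z⁻¹ * u * z) * g₂⁻¹) (i := a)
      rw [inv_inv] at h3
      rw [h2, h3, h1]; group

end Pr

/-! ### unipotent elements -/

section Unip

variable (hk : LocFin k) (p : ℕ) [Fact p.Prime] [CharP k p]

/-- the positive roots of height at least `n` -/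
def Hn (n : ℤ) : Set (Fin l → ℤ) := {x | IsRoot cs hp.isCartan x ∧ 0 ≤ x ∧ n ≤ Tits.Roots.ht x}

variable {x : ↥(D.group k)}

include hk p

/-- commutators of positive root groups -/
theorem comm_pos {S : Set (Fin l → ℤ)} {a b : Fin l → ℤ}
    (ha : IsRoot cs hp.isCartan a) (ha0 : 0 ≤ a) (hb : IsRoot cs hp.isCartan b) (hb0 : 0 ≤ b)
    (hS : ∀ i j : ℕ, 0 < i → 0 < j → IsRoot cs hp.isCartan (i • a + j • b) → i • a + j • b ∈ S) {x y : ↥(D.group k)}
    (hx : x ∈ XX D l k a) (hy : y ∈ XX D l k b) : ⁅x, y⁆ ∈ RGD.Sup (XX D l k) S := by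
  have C := coordsL hp cs hk p
  by_cases hab : a = b
  · subst hab
    obtain ⟨s, rfl⟩ := ((C.coord a ha).mem x).1 hx
    obtain ⟨t, rfl⟩ := ((C.coord a ha).mem y).1 hy
    have h1 : ⁅xc hp a s, xc hp a t⁆ = 1 := by
      rw [commutatorElement_eq_one_iff_mul_comm, ← (C.coord a ha).add, ← (C.coord a ha).add, add_comm]
    rw [h1]
    exact one_mem _
  · have hab' : a ≠ -b := by
      rintro rfl
      exact hb.neg.not_pos_neg ha0 (neg_nonpos.2 hb0)
    refine RGD.Sup_mono (S := BpExc.CommZ.combZ cs hp a b) ?_ (BpExc.CommZ.comm_mem_Z hp cs ha hb hab hab' hx hy)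
    rintro z ⟨hz, i, j, hi, hj, rfl⟩
    exact hS i j hi hj hz

theorem comm_Hn {m n : ℤ} (hm : 0 ≤ m) (hn : 0 ≤ n) {a b : Fin l → ℤ} (ha : a ∈ Hn hp cs m) (hb : b ∈ Hn hp cs n)
    {x y : ↥(D.group k)} (hx : x ∈ XX D l k a) (hy : y ∈ XX D l k b) {r : ℤ} (hl : r ≤ m + n) :
    ⁅x, y⁆ ∈ RGD.Sup (XX D l k) (Hn hp cs r) := by
  refine comm_pos hp cs hk p (S := Hn hp cs r) ha.1 ha.2.1 hb.1 hb.2.1 (fun i j hi hj h => ⟨h, ?_, ?_⟩) hx hy
  · exact add_nonneg (nsmul_nonneg ha.2.1 i) (nsmul_nonneg hb.2.1 j)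
  · have e : Tits.Roots.ht (i • a + j • b) = i * Tits.Roots.ht a + j * Tits.Roots.ht b := by
      rw [RGD.ht_add]
      have h1 : ∀ (n : ℕ) (x : Fin l → ℤ), Tits.Roots.ht (n • x) = n * Tits.Roots.ht x := by
        intro n x
        simp only [Tits.Roots.ht, Pi.smul_apply, nsmul_eq_mul, Finset.mul_sum]
      rw [h1, h1]
    rw [e]
    have h1 := ha.2.2
    have h2 := hb.2.2
    have h3 : (1 : ℤ) ≤ i := by exact_mod_cast hi
    have h4 : (1 : ℤ) ≤ j := by exact_mod_cast hj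
    nlinarith

theorem pow_root {a : Fin l → ℤ}
    (ha : IsRoot cs hp.isCartan a) {x : ↥(D.group k)} (hx : x ∈ XX D l k a) : x ^ p = 1 := by
  have C := coordsL hp cs hk p
  obtain ⟨s, rfl⟩ := ((C.coord a ha).mem x).1 hx
  have h1 : ∀ n : ℕ, xc hp a s ^ n = xc hp a (n * s) := by
    intro n
    induction n with
    | zero => rw [pow_zero, Nat.cast_zero, zero_mul, (C.coord a ha).zero]
    | succ n ih => rw [pow_succ, ih, ← (C.coord a ha).add, Nat.cast_succ, add_mul, one_mul]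
  rw [h1, CharP.cast_eq_zero, zero_mul, (C.coord a ha).zero]

/-- `p`-th powers double the height -/
theorem dbl_Hn {n : ℤ} (hn : 0 ≤ n) (hx : x ∈ RGD.Sup (XX D l k) (Hn hp cs n)) :
    x ^ p ∈ RGD.Sup (XX D l k) (Hn hp cs (2 * n)) := by
  refine NilExp.pow_mem (S := Hn hp cs n) (S' := Hn hp cs (2 * n)) ?_ ?_ ?_ hx
  · rintro a ⟨h1, h2, h3⟩
    exact ⟨h1, h2, by omega⟩
  · intro a ha b hb y hy z hz
    exact comm_Hn hp cs hk p hn hn ha hb hy hz (by omega)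
  · intro a ha y hy
    exact pow_root hp cs hk p ha.1 hy

/-- `p` odd: `p`-th powers triple the height -/
theorem tri_Hn (hodd : Odd p) {n : ℤ} (hn : 0 ≤ n) (hx : x ∈ RGD.Sup (XX D l k) (Hn hp cs n)) :
    x ^ p ∈ RGD.Sup (XX D l k) (Hn hp cs (3 * n)) := by
  refine odd_mem hodd (S := Hn hp cs n) (S₁ := Hn hp cs (2 * n)) (S' := Hn hp cs (3 * n)) ?_ ?_ ?_ ?_ ?_ hx
  · rintro a ⟨h1, h2, h3⟩
    exact ⟨h1, h2, by omega⟩
  · rintro a ⟨h1, h2, h3⟩
    exact ⟨h1, h2, by omega⟩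
  · intro a ha b hb y hy z hz
    exact comm_Hn hp cs hk p hn hn ha hb hy hz (by omega)
  · intro a ha b hb y hy z hz
    exact comm_Hn hp cs hk p (by omega) hn ha hb hy hz (by omega)
  · intro a ha y hy
    exact pow_root hp cs hk p ha.1 hy

theorem Hn_empty {N : ℤ} (hht : ∀ a, IsRoot cs hp.isCartan a → Tits.Roots.ht a ≤ N) {n : ℤ} (hn : N < n)
    (hx : x ∈ RGD.Sup (XX D l k) (Hn hp cs n)) : x = 1 := by
  have h1 : Hn hp cs n = ∅ := by
    rw [Set.eq_empty_iff_forall_notMem]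
    rintro a ⟨ha, h0, h1⟩
    have := hht a ha
    omega
  rw [h1] at hx
  have h2 : RGD.Sup (XX D l k) (∅ : Set (Fin l → ℤ)) ≤ ⊥ := RGD.Sup_le fun a ha => absurd ha (Set.notMem_empty a)
  exact Subgroup.mem_bot.1 (h2 hx)

/-- **The exponent of `U`** from the heights -/
theorem U_dbl {N : ℤ} (hht : ∀ a, IsRoot cs hp.isCartan a → Tits.Roots.ht a ≤ N) {j : ℕ} (hj : N < 2 ^ j)
    (hx : x ∈ RGD.Sup (XX D l k) (Hn hp cs 1)) : x ^ p ^ j = 1 := by
  have key : ∀ j : ℕ, x ^ p ^ j ∈ RGD.Sup (XX D l k) (Hn hp cs (2 ^ j)) := by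
    intro j
    induction j with
    | zero => rw [pow_zero p, pow_one, pow_zero]; exact hx
    | succ j ih =>
      have h1 := dbl_Hn hp cs hk p (by positivity) ih
      rw [← pow_mul, ← pow_succ] at h1
      rwa [← pow_succ'] at h1
  exact Hn_empty hp cs hk p hht hj (key j)

theorem U_tri (hodd : Odd p) {N : ℤ} (hht : ∀ a, IsRoot cs hp.isCartan a → Tits.Roots.ht a ≤ N) {j : ℕ}
    (hj : N < 3 ^ j) (hx : x ∈ RGD.Sup (XX D l k) (Hn hp cs 1)) : x ^ p ^ j = 1 := by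
  have key : ∀ j : ℕ, x ^ p ^ j ∈ RGD.Sup (XX D l k) (Hn hp cs (3 ^ j)) := by
    intro j
    induction j with
    | zero => rw [pow_zero p, pow_one, pow_zero]; exact hx
    | succ j ih =>
      have h1 := tri_Hn hp cs hk p hodd (by positivity) ih
      rw [← pow_mul, ← pow_succ] at h1
      rwa [← pow_succ'] at h1
  exact Hn_empty hp cs hk p hht hj (key j)

end Unip

end Cfsg.Agent.H482.TwoCyc.Pair
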