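import Cfsg.Agent.H482.TwoCyc.Forms
import Cfsg.Agent.H129.TorusUntw
import Cfsg.Agent.H129.TwE6Fr
import Cfsg.Agent.H378.TorFin

/-!
# Element orders of the exceptional groups (helper482)

`Ords q l N J2 J3 x` : `orderOf x = m p^j`, `q = p ^ e`, `m` prime to `p`, `j ≤ J2` if `p = 2`, `j ≤ J3` else;
`m ∣ ∏_{n ∈ S} Φ_n(q)`, `S` a finite set, `∑_{n ∈ S} φ(n) ≤ l`; and if `j ≠ 0` then
`m ∣ c ∏_{n ∈ S} Φ_n(q)`, `∑_{n ∈ S} φ(n) + d ≤ l`, `1 ≤ d`, `c ^ 2 ≤ N ^ d`, `c = 1` if `d = 1`.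

* `ords_G2` (`l = 2`, `N = 6`, exponents `p^3` (`p = 2`), `p^2` (`p` odd)),
  `ords_F4` (`l = 4`, `N = 4`, `2^4`, `p^3`), `ords_E6` (`l = 6`, `N = 2`, `2^4`, `p^3`),
  `ords_E7` (`l = 7`, `N = 2`, `2^5`, `p^3`), `ords_E8` (`l = 8`, `N = 2`, `2^5`, `p^4`),
  `ords_2E6` (`l = 6`, `N = 2`, `2^4`, `p^3`);
* `Ords.le` : `orderOf x ≤ (q + 1) ^ l * p ^ J`.
-/

set_option autoImplicit false
set_option linter.unusedSectionVars false

namespace Cfsg.Agent.H482.TwoCyc.Untw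

open CoxeterSystem Cfsg Cfsg.Lie Cfsg.Lie.ChevalleyDatum
open Cfsg.Agent.ChevalleyStructure Cfsg.Agent.ChevalleyStructure.Elts Cfsg.Agent.ChevalleyStructure.CoxeterGeom
  Cfsg.Agent.ChevalleyStructure.CoxeterGeomTypes Cfsg.Agent.ChevalleyStructure.NPerm
open Cfsg.Agent.Tits.Roots Cfsg.Agent.Tits.Core Cfsg.Agent.Nodes Cfsg.Agent.Nodes.Reps Cfsg.Agent.Nodes.BNOf
  Cfsg.Agent.Nodes.RGDChev Cfsg.Agent.Nodes.Bruhat
open Cfsg.Agent.KFacts.RgdField Cfsg.Agent.KFacts.RgdChevCoord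
open Cfsg.Agent.BpExc Cfsg.Agent.BpExc.TorCent Cfsg.Agent.BpExc.TorChev Cfsg.Agent.BpExc.Tow
  Cfsg.Agent.BpExc.TowChev Cfsg.Agent.BpExc.Fr Cfsg.Agent.BpExc.NInst
open Cfsg.Agent.H129.TorusChar Cfsg.Agent.BpExc.LangFr
open Cfsg.Agent.GpExc.Field (glMap emb coe_emb glMap_xG emb_injective coe_glMap)
open Cfsg.Agent.H482.TwoCyc.Pair Cfsg.Agent.H482.TwoCyc.Eng Cfsg.Agent.H482.TwoCyc.Forms
open Polynomial

universe u v

/-- the description of the order of an element -/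
def Ords {G : Type*} [Group G] (q l N J2 J3 : ℕ) (x : G) : Prop :=
  ∃ p e m j : ℕ, p.Prime ∧ 0 < e ∧ q = p ^ e ∧ orderOf x = m * p ^ j ∧ 0 < m ∧ m.Coprime p ∧
    (p = 2 → j ≤ J2) ∧ (p ≠ 2 → j ≤ J3) ∧
    (∃ S : Finset ℕ, (∀ n ∈ S, 0 < n) ∧ ∑ n ∈ S, Nat.totient n ≤ l ∧
      (m : ℤ) ∣ (∏ n ∈ S, cyclotomic n ℤ).eval (q : ℤ)) ∧
    (j ≠ 0 → ∃ d c : ℕ, 1 ≤ d ∧ 0 < c ∧ c ^ 2 ≤ N ^ d ∧ (d = 1 → c = 1) ∧
      ∃ S : Finset ℕ, (∀ n ∈ S, 0 < n) ∧ ∑ n ∈ S, Nat.totient n + d ≤ l ∧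
        (m : ℤ) ∣ c * (∏ n ∈ S, cyclotomic n ℤ).eval (q : ℤ))

/-- the exponent of `U` -/
theorem exp_U {D : ChevalleyDatum} {l : ℕ} {M : CoxeterMatrix (Fin l)} (hp : IsType D l M) {k : Type u} [Field k]
    {W : Type v} [Group W] (cs : CoxeterSystem M W) (hk : LocFin k) (p : ℕ) [Fact p.Prime] [CharP k p]
    {H : ℤ} (hH : ∀ r : Fin D.nroots, ∑ i, vec D l r i ≤ H) {J2 J3 : ℕ} (h2 : H < 2 ^ J2) (h3 : H < 3 ^ J3)
    {x : ↥(D.group k)} (hx : x ∈ RGD.Sup (XX D l k) (Hn hp cs 1)) : x ^ p ^ (if p = 2 then J2 else J3) = 1 := by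
  have hht : ∀ a, IsRoot cs hp.isCartan a → Tits.Roots.ht a ≤ H := by
    intro a ha
    obtain ⟨r, hr, rfl⟩ := (isRoot_iff hp cs a).1 ha
    exact hH ⟨r, hr⟩
  by_cases hp2 : p = 2
  · rw [if_pos hp2]
    exact U_dbl hp cs hk p hht h2 hx
  · rw [if_neg hp2]
    exact U_tri hp cs hk p ((Fact.out : p.Prime).odd_of_ne_two hp2) hht h3 hx

/-- the engine in terms of `Ords` -/
theorem ords_of {D : ChevalleyDatum} {l : ℕ} {M : CoxeterMatrix (Fin l)} (hp : IsType D l M) {k : Type u} [Field k]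
    {W : Type v} [Group W] (cs : CoxeterSystem M W) [IsAlgClosed k] [Finite W] {p e : ℕ} [Fact p.Prime] [CharP k p]
    {σ : MulAut ↥(D.group k)} {g : (Fin l → ℤ) ≃+ (Fin l → ℤ)} (he : 0 < e)
    (hk : LocFin k) (hka : BpExc.TorAll.HAlg p k) (hσ : IsFrob p e σ)
    (F : Fr cs hp.isCartan (TT D k) (XX D l k) σ g) {A P Q : Fin l → Fin l → ℤ} {c : Fin l → ℤ} {K κ : ℤ}
    (hcert : Cert A P Q c K κ) (hAc : ∀ i j, 2 * A i j = A i i * cartanOf D l i j) (hg : ∀ x, bq A (g x) = bq A x)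
    {N : ℕ} {H : ℤ} (hlen : ∀ r : Fin D.nroots, (∑ i, ∑ j, vec D l r i * A i j * vec D l r j) ≤ N ∧
      (∑ i, vec D l r i) ≤ H) {J2 J3 : ℕ} (h2 : H < 2 ^ J2) (h3 : H < 3 ^ J3)
    {G : Type*} [Group G] (f : G →* ↥(D.group k)) (hf : Function.Injective f) (x : G) (hx : σ (f x) = f x)
    (hx0 : 0 < orderOf x) : Ords (p ^ e) l N J2 J3 x := by
  obtain ⟨m, j, h4, h5, h6, h7, h8⟩ := engine hp cs hk hka hσ F hcert hAc hg (N := N)
    (fun r hr => by rw [bq_eq]; exact (hlen ⟨r, hr⟩).1) (J := if p = 2 then J2 else J3)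
    (fun u hu => exp_U hp cs hk p (fun r => (hlen r).2) h2 h3 hu) f hf x hx hx0
  refine ⟨p, e, m, j, Fact.out, he, rfl, h4, ?_, h5, fun h => by rwa [if_pos h] at h6,
    fun h => by rwa [if_neg h] at h6, h7, h8⟩
  rcases Nat.eq_zero_or_pos m with rfl | h
  · rw [h4, zero_mul] at hx0; omega
  · exact h

/-- the untwisted groups -/
theorem untw {D : ChevalleyDatum} {l : ℕ} {M : CoxeterMatrix (Fin l)} (hp : IsType D l M)
    {A P Q : Fin l → Fin l → ℤ} {c : Fin l → ℤ} {K κ : ℤ}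
    (hcert : Cert A P Q c K κ) (hAc : ∀ i j, 2 * A i j = A i i * cartanOf D l i j)
    {N : ℕ} {H : ℤ} (hlen : ∀ r : Fin D.nroots, (∑ i, ∑ j, vec D l r i * A i j * vec D l r j) ≤ N ∧
      (∑ i, vec D l r i) ≤ H) {J2 J3 : ℕ} (h2 : H < 2 ^ J2) (h3 : H < 3 ^ J3)
    {F : Type u} [Field F] [Finite F] (x : ↥(D.group F)) : Ords (Nat.card F) l N J2 J3 x := by
  have := Fintype.ofFinite F
  have : Finite (GL D.Idx F) := inferInstance
  obtain ⟨k, _, _, f, p, _, _, e, hk, hka, he, hn⟩ := H378.TorFin.exists_closure F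
  have hfin := finite_W hp M.toCoxeterSystem
  rw [hn]
  refine ords_of hp M.toCoxeterSystem he hk hka H129.TorusUntw.isFrob_phi (H129.TorusUntw.fr_phi hp M.toCoxeterSystem)
    hcert hAc (fun _ => rfl) hlen h2 h3 (emb hp.inList f) (emb_injective hp.inList f) x ?_ (orderOf_pos x)
  exact H129.TorusUntw.phi_emb hp f (by rw [← Nat.card_eq_fintype_card, hn]) x

variable {F : Type u} [Field F] [Finite F]

theorem ords_G2 (x : ↥(chevG2.group F)) : Ords (Nat.card F) 2 6 3 2 x :=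
  untw RowsUntw.g2T cert_G2 cart_G2 len_G2 (by norm_num) (by norm_num) x

theorem ords_F4 (x : ↥(chevF4.group F)) : Ords (Nat.card F) 4 4 4 3 x :=
  untw RowsUntw.f4T cert_F4 cart_F4 len_F4 (by norm_num) (by norm_num) x

theorem ords_E6 (x : ↥(chevE6.group F)) : Ords (Nat.card F) 6 2 4 3 x :=
  untw RowsUntw.e6T cert_E6 cart_E6 len_E6 (by norm_num) (by norm_num) x

theorem ords_E7 (x : ↥(chevE7.group F)) : Ords (Nat.card F) 7 2 5 3 x :=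
  untw RowsUntw.e7T cert_E7 cart_E7 len_E7 (by norm_num) (by norm_num) x

theorem ords_E8 (x : ↥(chevE8.group F)) : Ords (Nat.card F) 8 2 5 4 x :=
  untw RowsUntw.e8T cert_E8 cart_E8 len_E8 (by norm_num) (by norm_num) x

/-! ### twisted groups of type `E₆` -/

theorem bq_flip (x : Fin 6 → ℤ) : bq AE6 (H129.TwE6Fr.flip6 x) = bq AE6 x := by
  rw [bq_eq, bq_eq, H129.TwE6Fr.flip6_apply]
  simp [Fin.sum_univ_succ, AE6]
  ring

theorem ords_2E6 {K : Type u} [Field K] [Fintype K] {q : ℕ} (hq : IsPrimePow q) (hK : Fintype.card K = q ^ 2)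
    (x : ↥(twistedE6 K q)) : Ords q 6 2 4 3 x := by
  have : Finite (GL chevE6.Idx K) := inferInstance
  obtain ⟨k, _, _, f, p, _, _, n, hk, hka, hn0, hn⟩ := H378.TorFin.exists_closure K
  obtain ⟨p', e, hp', he, hqe'⟩ := id hq
  have hpF : Fact p.Prime := inferInstance
  have hpp : p' = p := by
    have h1 : p' ∣ p ^ n := by
      rw [← hn, Nat.card_eq_fintype_card, hK, ← hqe']
      exact dvd_pow (dvd_pow_self p' he.ne') (by norm_num)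
    exact (Nat.prime_dvd_prime_iff_eq hp'.nat_prime hpF.out).1 (hp'.nat_prime.dvd_of_dvd_pow h1)
  subst hpp
  have hfin := finite_W RGDTwE6.hp CoxeterMatrix.E₆.toCoxeterSystem
  have h1 := ords_of RGDTwE6.hp CoxeterMatrix.E₆.toCoxeterSystem he hk hka (H129.TwE6Fr.isFrob_tau (p := p') (e := e))
    (H129.TwE6Fr.fr_tau CoxeterMatrix.E₆.toCoxeterSystem) cert_E6 cart_E6 bq_flip (N := 2) (J2 := 4) (J3 := 3) len_E6
    (by norm_num) (by norm_num) (H129.TwE6Fr.embT f hq hK) (H129.TwE6Fr.embT_injective f hq hK) x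
    (H129.TwE6Fr.tau_embT f hqe'.symm hq hK x) (orderOf_pos x)
  rwa [hqe'] at h1

/-! ### numerical consequences -/

theorem card_pos_eval (q : ℕ) (hq : 2 ≤ q) {m : ℕ} {S : Finset ℕ} {c : ℕ} (hc : 0 < c)
    (h : (m : ℤ) ∣ c * (∏ n ∈ S, cyclotomic n ℤ).eval (q : ℤ)) :
    m ≤ c * (q + 1) ^ ∑ n ∈ S, Nat.totient n := by
  have h1 := Poly.eval_pos q hq S
  have h2 := Poly.eval_le q hq S
  have h3 := Int.le_of_dvd (mul_pos (by exact_mod_cast hc) h1) h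
  have h4 : (m : ℤ) ≤ ((c * (q + 1) ^ ∑ n ∈ S, Nat.totient n : ℕ) : ℤ) := by
    push_cast
    exact h3.trans (mul_le_mul_of_nonneg_left h2 (by positivity))
  exact_mod_cast h4

/-- the crude bound -/
theorem Ords.le {G : Type*} [Group G] {q l N J2 J3 : ℕ} {x : G} (h : Ords q l N J2 J3 x) :
    ∃ p e : ℕ, p.Prime ∧ 0 < e ∧ q = p ^ e ∧ orderOf x ≤ (q + 1) ^ l * p ^ (if p = 2 then J2 else J3) := by
  obtain ⟨p, e, m, j, hp, he, hq, ho, hm, hmp, h2, h3, ⟨S, hS, hSl, hmS⟩, -⟩ := h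
  have hq2 : 2 ≤ q := by rw [hq]; exact hp.two_le.trans (Nat.le_self_pow he.ne' p)
  refine ⟨p, e, hp, he, hq, ?_⟩
  rw [ho]
  refine Nat.mul_le_mul ?_ (Nat.pow_le_pow_right hp.pos ?_)
  · have h4 := card_pos_eval q hq2 (c := 1) one_pos (m := m) (S := S) (by rwa [Nat.cast_one, one_mul])
    rw [one_mul] at h4
    exact h4.trans (Nat.pow_le_pow_right (by omega) hSl)
  · split_ifs with h
    · exact h2 h
    · exact h3 h

/-- the bound with the Levi part: `B` bounds the semisimple orders, `C` those of the elements commuting with a unipotent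
one -/
theorem Ords.le_max {G : Type*} [Group G] {q l N J2 J3 : ℕ} {x : G} (h : Ords q l N J2 J3 x) {B C : ℕ}
    (hB : ∀ S : Finset ℕ, (∀ n ∈ S, 0 < n) → ∑ n ∈ S, Nat.totient n ≤ l →
      (∏ n ∈ S, cyclotomic n ℤ).eval (q : ℤ) ≤ B)
    (hC : ∀ (S : Finset ℕ) (d c : ℕ), (∀ n ∈ S, 0 < n) → 1 ≤ d → 0 < c → c ^ 2 ≤ N ^ d → (d = 1 → c = 1) →
      ∑ n ∈ S, Nat.totient n + d ≤ l → c * (∏ n ∈ S, cyclotomic n ℤ).eval (q : ℤ) ≤ C) :
    ∃ p e : ℕ, p.Prime ∧ 0 < e ∧ q = p ^ e ∧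
      (orderOf x ≤ B ∨ orderOf x ≤ C * p ^ (if p = 2 then J2 else J3)) := by
  obtain ⟨p, e, m, j, hp, he, hq, ho, hm, hmp, h2, h3, ⟨S, hS, hSl, hmS⟩, h4⟩ := h
  have hq2 : 2 ≤ q := by rw [hq]; exact hp.two_le.trans (Nat.le_self_pow he.ne' p)
  refine ⟨p, e, hp, he, hq, ?_⟩
  rw [ho]
  by_cases hj : j = 0
  · left
    rw [hj, pow_zero, mul_one]
    have h5 := Int.le_of_dvd (Poly.eval_pos q hq2 S) hmS
    exact_mod_cast h5.trans (hB S hS hSl)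
  · right
    obtain ⟨d, c, hd, hc, hcN, hd1, S', hS', hSd, hm'⟩ := h4 hj
    have h5 := Int.le_of_dvd (mul_pos (by exact_mod_cast hc) (Poly.eval_pos q hq2 S')) hm'
    have h6 : m ≤ C := by exact_mod_cast h5.trans (hC S' d c hS' hd hc hcN hd1 hSd)
    refine Nat.mul_le_mul h6 (Nat.pow_le_pow_right hp.pos ?_)
    split_ifs with h
    · exact h2 h
    · exact h3 h

end Cfsg.Agent.H482.TwoCyc.Untw
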